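import Cfsg.Agent.Cit.FamFb_m3
import Cfsg.Agent.KFacts.RgdFld.Two_m3
import Cfsg.Agent.Cit.Nil.LO.FormQ_m3
import Cfsg.Agent.TwoFusion.Isolated
import Cfsg.Agent.TwoFusion.IsolatedCenter
import Cfsg.Agent.S0215
import Cfsg.Agent.Lib.Cores
import Cfsg.Agent.Lib.KleinGen
import Cfsg.Agent.StdEven.Syl
import Cfsg.Agent.Cit.Nil.RI.Closed_m3
import Cfsg.Agent.Cit.OneBasic
import Cfsg.Agent.Cit.Nil.Comp.MThreeAbs
import Cfsg.Agent.FastGrp
import Cfsg.Agent.Prune
set_option linter.all false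

section
prune_inst 0x7ffcfefbaff8bddfffff7fffffffdffffdfcffffffdffbfbfffdffffffff6b6fffe7fbaffffcdafffef7e2beb4f87b53fdffdeffef6bdd7ffffd5ff45fffff9fffffbfad71dfbcbe1ffe6ffffbfb7fffffffffffffffffffffffffffffffffffffffffffffff

-- part: Cit/Nil/AN/Inst
section
prune_inst 0x2010040010220000000000000000000010000000000000002000000001000001800400003040000001000020000a802002100009420000002a008a00000400000400004200001000010000404000000000000000000000000000000000000000000000000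
set_option linter.all false
open scoped Cfsg.Agent.FastGrp

-- part: Cit/Nil/ROne/QLoc
section
/-!
# Two commuting elements of order two acting on a quaternion group of order eight

`Qt.local_two` : let `x`, `u` be commuting elements with squares `1` normalising `Q = ⟨i, j⟩ ≅ Q8`.  Then `x u`
centralises `Q`, or there is `a ∈ Q` of order four with `xᵃ, uᵃ` equal to `(x, u z)`, `(x z, u)` or `(x z, u z)`.
-/

set_option autoImplicit false
set_option linter.unusedSectionVars false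

namespace Cfsg.Agent.Cit.SLThree.Qt

open Subgroup Cfsg

variable {X : Type*} [Group X] {z i j : X}

theorem z_comm (h : Qt z i j) {a : X} (ha : a ∈ closure {i, j}) : z * a = a * z := (h.comm_z ha).symm

/-- two elements of order four that do not commute -/
theorem nc (h : Qt z i j) {a b : X} (ha : a ∈ closure {i, j}) (hb : b ∈ closure {i, j}) (ha2 : a * a = z)
    (hb2 : b * b = z) (hne : ¬ (b = a ∨ b = z * a)) : b * a = z * (a * b) ∧ (a * b) * (a * b) = z := by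
  have h1 : a * b ∈ closure {i, j} := mul_mem ha hb
  have h2 : ¬ (a * b) * (a * b) = 1 := by
    intro h3
    rcases h.sq_cases h1 h3 with h4 | h4
    · apply hne
      right
      -- `b = a⁻¹ = z a`
      have h5 : a * (z * a) = 1 := by rw [← mul_assoc, ← h.z_comm ha, mul_assoc, ha2, h.z2]
      exact mul_left_cancel (a := a) (by rw [h4, h5])
    · apply hne
      left
      exact mul_left_cancel (a := a) (by rw [h4, ha2])
  have h3 := (h.sq h1).resolve_left h2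
  refine ⟨?_, h3⟩
  -- `a b a b = z`, so `b a = a⁻¹ z b⁻¹`
  have h4 : a * (b * a) * b = a * (z * (a * b)) * b := by
    calc a * (b * a) * b = (a * b) * (a * b) := by group
      _ = z := h3
      _ = z * (z * z) := by rw [h.z2, mul_one]
      _ = (a * a) * (z * (b * b)) := by rw [ha2, hb2]
      _ = a * (a * z) * (b * b) := by group
      _ = a * (z * a) * (b * b) := by rw [h.z_comm ha]
      _ = a * (z * (a * b)) * b := by group
  exact mul_left_cancel (mul_right_cancel h4)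

/-- an involutory action fixing `d` of order four preserves `⟨b⟩` for every `b` of order four -/
theorem stable_of_fix (h : Qt z i j) {x b d : X} (hN : ∀ a ∈ closure {i, j}, x * a * x⁻¹ ∈ closure {i, j})
    (hz : x * z * x⁻¹ = z) (hx2 : x * x = 1) (hd : d ∈ closure {i, j}) (hd2 : d * d = z)
    (hxd : x * d * x⁻¹ = d) (hb : b ∈ closure {i, j}) (hb2 : b * b = z) (hne : ¬ (b = d ∨ b = z * d)) :
    x * b * x⁻¹ = b ∨ x * b * x⁻¹ = z * b := by
  have hcj : ∀ p q : X, x * (p * q) * x⁻¹ = (x * p * x⁻¹) * (x * q * x⁻¹) := fun p q => by group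
  have hxx : ∀ p : X, x * (x * p * x⁻¹) * x⁻¹ = p := by
    intro p
    calc x * (x * p * x⁻¹) * x⁻¹ = (x * x) * p * (x * x)⁻¹ := by group
      _ = p := by rw [hx2]; group
  obtain ⟨b', hb'⟩ : ∃ b', b' = x * b * x⁻¹ := ⟨_, rfl⟩
  have hb'm : b' ∈ closure {i, j} := hb' ▸ hN b hb
  have hb'2 : b' * b' = z := by rw [hb', ← hcj, hb2, hz]
  have hne' : ¬ (b' = d ∨ b' = z * d) := by
    rintro (h1 | h1)
    · apply hne; left
      have := hxx b
      rw [← hb', h1, hxd] at this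
      exact this.symm
    · apply hne; right
      have := hxx b
      rw [← hb', h1, hcj, hz, hxd] at this
      exact this.symm
  by_contra hcon
  rw [← hb'] at hcon
  obtain ⟨h1, h2⟩ := h.nc hd hb hd2 hb2 hne
  obtain ⟨h3, h4⟩ := h.nc hd hb'm hd2 hb'2 hne'
  obtain ⟨h5, h6⟩ := h.nc hb hb'm hb2 hb'2 hcon
  -- `f = b b'` commutes with `d`
  have h7 : d * (b * b') = (b * b') * d := by
    have e1 : d * b = z * (b * d) := by rw [h1, h.zz]
    have e2 : d * b' = z * (b' * d) := by rw [h3, h.zz]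
    calc d * (b * b') = (d * b) * b' := by group
      _ = z * (b * (d * b')) := by rw [e1]; group
      _ = z * (b * z) * (b' * d) := by rw [e2]; group
      _ = z * (z * b) * (b' * d) := by rw [h.z_comm hb]
      _ = (b * b') * d := by rw [h.zz]; group
  have h8 := h.eq_or hd (mul_mem hb hb'm) hd2 h6 h7
  -- apply `x` to `b b' = z^ε d`
  have h9 : x * (b * b') * x⁻¹ = b * b' := by
    rcases h8 with h8 | h8
    · rw [h8, hxd]
    · rw [h8, hcj, hz, hxd]
  have h10 : x * (b * b') * x⁻¹ = b' * b := by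
    rw [hcj, ← hb', hb', hxx]
  rw [h9, h5] at h10
  exact h.z1 (mul_right_cancel (b := b * b') (by rw [one_mul]; exact h10.symm))

/-- **local lemma** -/
theorem local_two [Finite X] (h : Qt z i j) {x u : X}
    (hN : ∀ a ∈ closure {i, j}, x * a * x⁻¹ ∈ closure {i, j}) (hM : ∀ a ∈ closure {i, j}, u * a * u⁻¹ ∈ closure {i, j})
    (hxz : x * z * x⁻¹ = z) (huz : u * z * u⁻¹ = z) (hx2 : x * x = 1) (hu2 : u * u = 1) (hxu : x * u = u * x) :
    (∀ k ∈ closure {i, j}, (x * u) * k = k * (x * u)) ∨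
      ∃ a ∈ closure {i, j}, a * a = z ∧
        ((x * a * x⁻¹ = a ∧ u * a * u⁻¹ = z * a) ∨ (x * a * x⁻¹ = z * a ∧ u * a * u⁻¹ = a) ∨
          (x * a * x⁻¹ = z * a ∧ u * a * u⁻¹ = z * a)) := by
  have cx : ∀ p q : X, x * (p * q) * x⁻¹ = (x * p * x⁻¹) * (x * q * x⁻¹) := fun p q => by group
  have cu : ∀ p q : X, u * (p * q) * u⁻¹ = (u * p * u⁻¹) * (u * q * u⁻¹) := fun p q => by group
  have hxx : ∀ p : X, x * (x * p * x⁻¹) * x⁻¹ = p := by
    intro p
    calc x * (x * p * x⁻¹) * x⁻¹ = (x * x) * p * (x * x)⁻¹ := by group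
      _ = p := by rw [hx2]; group
  have huu : ∀ p : X, u * (u * p * u⁻¹) * u⁻¹ = p := by
    intro p
    calc u * (u * p * u⁻¹) * u⁻¹ = (u * u) * p * (u * u)⁻¹ := by group
      _ = p := by rw [hu2]; group
  have hxuc : ∀ p : X, x * (u * p * u⁻¹) * x⁻¹ = u * (x * p * x⁻¹) * u⁻¹ := by
    intro p
    calc x * (u * p * u⁻¹) * x⁻¹ = (x * u) * p * (x * u)⁻¹ := by group
      _ = u * (x * p * x⁻¹) * u⁻¹ := by rw [hxu]; group
  have sqx : ∀ {p : X}, p * p = z → (x * p * x⁻¹) * (x * p * x⁻¹) = z := fun hp => by rw [← cx, hp, hxz]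
  have squ : ∀ {p : X}, p * p = z → (u * p * u⁻¹) * (u * p * u⁻¹) = z := fun hp => by rw [← cu, hp, huz]
  -- `d` stable under `x`
  obtain ⟨d, hd, hd2, hdx⟩ : ∃ d ∈ closure {i, j}, d * d = z ∧ (x * d * x⁻¹ = d ∨ x * d * x⁻¹ = z * d) := by
    by_cases h1 : x * i * x⁻¹ = i ∨ x * i * x⁻¹ = z * i
    · exact ⟨i, mem_i z i j, h.i2, h1⟩
    · obtain ⟨h2, h3⟩ := h.nc (mem_i z i j) (hN i (mem_i z i j)) h.i2 (sqx h.i2) h1
      refine ⟨i * (x * i * x⁻¹), mul_mem (mem_i z i j) (hN i (mem_i z i j)), h3, Or.inr ?_⟩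
      rw [cx, hxx, h2]
  by_cases h1 : u * d * u⁻¹ = d ∨ u * d * u⁻¹ = z * d
  · -- both stable
    by_cases h2 : x * d * x⁻¹ = d ∧ u * d * u⁻¹ = d
    · obtain ⟨hxd, hud⟩ := h2
      obtain ⟨b, hb, hb2, hbd⟩ := h.exists_inv hd hd2
      have hne : ¬ (b = d ∨ b = z * d) := by
        rintro (rfl | rfl)
        · exact h.z1 (mul_right_cancel (b := b * b) (by rw [one_mul]; exact hbd.symm))
        · have e1 : z * d * d = d * (z * d) := by rw [mul_assoc, hd2, ← mul_assoc, ← h.z_comm hd, mul_assoc, hd2]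
          rw [e1] at hbd
          exact h.z1 (mul_right_cancel (b := d * (z * d)) (by rw [one_mul]; exact hbd.symm))
      have hQ : Qt z d b := ⟨h.z2, h.z1, hd2, hb2, hbd⟩
      have hcl : closure ({d, b} : Set X) = closure {i, j} := by
        apply eq_of_le_of_card_ge
        · rw [closure_le]
          rintro y (rfl | rfl)
          · exact hd
          · exact hb
        · rw [hQ.card, h.card]
      have hxb := h.stable_of_fix hN hxz hx2 hd hd2 hxd hb hb2 hne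
      have hub := h.stable_of_fix hM huz hu2 hd hd2 hud hb hb2 hne
      have key : (x * u) * b * (x * u)⁻¹ = b → ∀ k ∈ closure {i, j}, (x * u) * k = k * (x * u) := by
        intro hk k hkm
        rw [← hcl] at hkm
        have h5 : closure ({d, b} : Set X) ≤ centralizer {x * u} := by
          rw [closure_le]
          rintro y (rfl | rfl)
          · refine mem_centralizer_singleton_iff.2 ?_
            have : (x * u) * y * (x * u)⁻¹ = y := by
              calc (x * u) * y * (x * u)⁻¹ = x * (u * y * u⁻¹) * x⁻¹ := by group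
                _ = y := by rw [hud, hxd]
            rw [mul_inv_eq_iff_eq_mul] at this
            exact this.symm
          · refine mem_centralizer_singleton_iff.2 ?_
            rw [mul_inv_eq_iff_eq_mul] at hk
            exact hk.symm
        exact (mem_centralizer_singleton_iff.1 (h5 hkm)).symm
      have e1 : (x * u) * b * (x * u)⁻¹ = x * (u * b * u⁻¹) * x⁻¹ := by group
      rcases hxb with hxb | hxb <;> rcases hub with hub | hub
      · left
        apply key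
        rw [e1, hub, hxb]
      · exact Or.inr ⟨b, hb, hb2, Or.inl ⟨hxb, hub⟩⟩
      · exact Or.inr ⟨b, hb, hb2, Or.inr (Or.inl ⟨hxb, hub⟩)⟩
      · left
        apply key
        rw [e1, hub, cx, hxz, hxb, h.zz]
    · right
      refine ⟨d, hd, hd2, ?_⟩
      rcases hdx with hdx | hdx <;> rcases h1 with h1 | h1
      · exact absurd ⟨hdx, h1⟩ h2
      · exact Or.inl ⟨hdx, h1⟩
      · exact Or.inr (Or.inl ⟨hdx, h1⟩)
      · exact Or.inr (Or.inr ⟨hdx, h1⟩)
  · right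
    obtain ⟨h2, h3⟩ := h.nc hd (hM d hd) hd2 (squ hd2) h1
    refine ⟨d * (u * d * u⁻¹), mul_mem hd (hM d hd), h3, Or.inl ⟨?_, ?_⟩⟩
    · rw [cx, hxuc]
      rcases hdx with hdx | hdx
      · rw [hdx]
      · rw [hdx, cu, huz]
        calc z * d * (z * (u * d * u⁻¹)) = z * (d * z) * (u * d * u⁻¹) := by group
          _ = z * (z * d) * (u * d * u⁻¹) := by rw [h.z_comm hd]
          _ = d * (u * d * u⁻¹) := by rw [h.zz]
    · rw [cu, huu, h2]

end Cfsg.Agent.Cit.SLThree.Qt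
end

-- part: Cit/Nil/ROne/Triple
section
/-!
# S1309, `r = 1`: the T-triple lemma

`exists_qt`, `local_one`, `local_two` : the members as quaternion groups of order eight.
`exists_mul`  : commuting `z ≠ u` in `Z`, `u` not centralising `K_z`: `z u ∈ Z`.
`triple`      : `(x, u)` a C-pair, `z` commuting and non-C with both: `x u ∈ C(K_z)`.
-/

set_option autoImplicit false
set_option linter.unusedSectionVars false

namespace Cfsg.Agent.Cit.ROne

open Subgroup Cfsg Cit SLThree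

variable {G : Type*} [Group G] [Finite G] {Om : Set (Subgroup G)} {K L M : Subgroup G} {x u : G}

theorem two_of_card (h8 : Nat.card K = 8) : IsPGroup 2 K := by
  have : Fact (Nat.Prime 2) := ⟨Nat.prime_two⟩
  exact IsPGroup.iff_card.2 ⟨3, by rw [h8]; norm_num⟩

/-- coordinates for a member of order eight -/
theorem exists_qt (h : Hyp Om) (hK : K ∈ Om) (h8 : Nat.card K = 8) :
    ∃ i j, Qt (zz K) i j ∧ closure ({i, j} : Set G) = K := by
  obtain ⟨c, v, n, hgq⟩ := h.exists_gq hK (syl_self (two_of_card h8))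
  obtain ⟨i, hi, j, hj, hi4, hj4, -, hji⟩ := hgq.exists_pair
  have sq : ∀ a ∈ K, orderOf a = 4 → a * a = zz K := by
    intro a ha ha4
    refine h.eq_zz hK (mul_mem ha ha) ?_ ?_
    · have := pow_orderOf_eq_one a
      rw [ha4] at this
      rw [← this]; simp only [pow_succ, pow_zero, one_mul, mul_assoc]
    · intro h1
      have := orderOf_dvd_of_pow_eq_one (by rw [pow_two]; exact h1 : a ^ 2 = 1)
      rw [ha4] at this
      omega
  have hz : ∀ a ∈ K, a * zz K = zz K * a := fun a ha => h.comm_zz hK (le_normalizer ha)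
  have hq : Qt (zz K) i j :=
    ⟨h.zz_mul hK, h.zz_ne hK, sq i hi hi4, sq j hj hj4, by rw [hji, hz _ (mul_mem hi hj)]⟩
  refine ⟨i, j, hq, ?_⟩
  apply eq_of_le_of_card_ge
  · rw [closure_le]
    rintro y (rfl | rfl)
    · exact hi
    · exact hj
  · rw [h8, hq.card]

/-- `r = 1`: the centraliser of `zz K` normalises `K` -/
theorem centralizer_le (h : Hyp Om) (h1 : ∀ K ∈ Om, ∀ L ∈ Om, zz K = zz L → K = L) (hK : K ∈ Om) :
    centralizer {zz K} ≤ normalizer (K : Set G) := by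
  intro g hg
  rw [mem_normalizer_iff_cj]
  refine h1 _ (h.conj K hK g) _ hK ?_
  rw [h.zz_cj hK, mem_centralizer_singleton_iff.1 hg, mul_inv_cancel_right]

theorem cj_eq (h : Hyp Om) (h1 : ∀ K ∈ Om, ∀ L ∈ Om, zz K = zz L → K = L) (hK : K ∈ Om) {g : G}
    (hg : g * zz K = zz K * g) : cj g K = K :=
  mem_normalizer_iff_cj.1 (centralizer_le h h1 hK (mem_centralizer_singleton_iff.2 hg))

/-- two commuting involutions of `C(z)` on `K_z` -/
theorem local_two (h : Hyp Om) (h1 : ∀ K ∈ Om, ∀ L ∈ Om, zz K = zz L → K = L) (hK : K ∈ Om)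
    (h8 : Nat.card K = 8) (hx : x * zz K = zz K * x) (hu : u * zz K = zz K * u) (hx2 : x * x = 1)
    (hu2 : u * u = 1) (hxu : x * u = u * x) :
    (∀ k ∈ K, (x * u) * k = k * (x * u)) ∨
      ∃ a ∈ K, a * a = zz K ∧
        ((a * x * a⁻¹ = x ∧ a * u * a⁻¹ = zz K * u) ∨ (a * x * a⁻¹ = zz K * x ∧ a * u * a⁻¹ = u) ∨
          (a * x * a⁻¹ = zz K * x ∧ a * u * a⁻¹ = zz K * u)) := by
  obtain ⟨i, j, hq, hcl⟩ := exists_qt h hK h8
  have hn : ∀ {y : G}, y * zz K = zz K * y → ∀ a ∈ closure ({i, j} : Set G), y * a * y⁻¹ ∈ closure ({i, j} : Set G) := by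
    intro y hy a ha
    rw [hcl] at ha ⊢
    have h3 := centralizer_le h h1 hK (mem_centralizer_singleton_iff.2 hy)
    exact (mem_normalizer_iff.1 h3 a).1 ha
  have hzy : ∀ {y : G}, y * zz K = zz K * y → y * zz K * y⁻¹ = zz K := by
    intro y hy
    rw [hy, mul_inv_cancel_right]
  have e0 : ∀ {y a : G}, y * a * y⁻¹ = a → a * y * a⁻¹ = y := by
    intro y a hy
    rw [mul_inv_eq_iff_eq_mul] at hy ⊢
    exact hy.symm
  have e1 : ∀ {y a : G}, y * zz K = zz K * y → y * a * y⁻¹ = zz K * a → a * y * a⁻¹ = zz K * y := by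
    intro y a hy hh
    rw [mul_inv_eq_iff_eq_mul] at hh ⊢
    -- `y a = z a y`
    calc a * y = zz K * (zz K * a * y) := by rw [mul_assoc (zz K) a y, ← mul_assoc (zz K) (zz K), h.zz_mul hK, one_mul]
      _ = zz K * (y * a) := by rw [hh]
      _ = zz K * y * a := by group
  rcases hq.local_two (hn hx) (hn hu) (hzy hx) (hzy hu) hx2 hu2 hxu with h3 | ⟨a, ha, ha2, h3⟩
  · left
    rw [hcl] at h3
    exact h3
  · right
    refine ⟨a, hcl ▸ ha, ha2, ?_⟩
    rcases h3 with h3 | h3 | h3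
    · exact Or.inl ⟨e0 h3.1, e1 hu h3.2⟩
    · exact Or.inr (Or.inl ⟨e1 hx h3.1, e0 h3.2⟩)
    · exact Or.inr (Or.inr ⟨e1 hx h3.1, e1 hu h3.2⟩)

/-- an involution of `C(z)` not centralising `K_z` is moved to `z u` by an element of order four of `K_z` -/
theorem local_one (h : Hyp Om) (h1 : ∀ K ∈ Om, ∀ L ∈ Om, zz K = zz L → K = L) (hK : K ∈ Om)
    (h8 : Nat.card K = 8) (hu : u * zz K = zz K * u) (hu2 : u * u = 1) :
    (∀ k ∈ K, u * k = k * u) ∨ ∃ a ∈ K, a * a = zz K ∧ a * u * a⁻¹ = zz K * u := by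
  rcases local_two h h1 hK h8 (x := 1) (by rw [one_mul, mul_one]) hu (one_mul 1) hu2 (by rw [one_mul, mul_one]) with
    h3 | ⟨a, ha, ha2, h3⟩
  · left
    simpa using h3
  · right
    refine ⟨a, ha, ha2, ?_⟩
    rcases h3 with h3 | h3 | h3
    · exact h3.2
    · exfalso
      have := h3.1
      rw [mul_one, mul_inv_cancel, mul_one] at this
      exact h.zz_ne hK this.symm
    · exact h3.2

/-- non-C commuting `z`, `u` : `z u ∈ Z` -/
theorem exists_mul (h : Hyp Om) (h1 : ∀ K ∈ Om, ∀ L ∈ Om, zz K = zz L → K = L) (h8 : ∀ K ∈ Om, Nat.card K = 8)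
    (hK : K ∈ Om) (hL : L ∈ Om) (hc : zz K * zz L = zz L * zz K) (hn : ¬ ∀ k ∈ K, zz L * k = k * zz L) :
    ∃ M ∈ Om, zz M = zz K * zz L := by
  rcases local_one h h1 hK (h8 K hK) hc.symm (h.zz_mul hL) with h3 | ⟨a, -, -, ha⟩
  · exact absurd h3 hn
  · exact ⟨cj a L, h.conj L hL a, by rw [h.zz_cj hL, ha]⟩

/-- `[z, K_u] = 1` iff `[u, K_z] = 1` -/
theorem cp_symm (h : Hyp Om) (h8 : ∀ K ∈ Om, Nat.card K = 8) (hK : K ∈ Om) (hL : L ∈ Om) (hne : K ≠ L)
    (hc : ∀ k ∈ K, zz L * k = k * zz L) : ∀ k ∈ L, zz K * k = k * zz K := by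
  intro k hk
  exact h.comm_of_zz_comm hK hL (two_of_card (h8 K hK)) (two_of_card (h8 L hL)) (fun a ha => (hc a ha).symm) hne
    (zz K) (h.zz_mem hK) k hk

/-- **T-TRIPLE** : `(x, u)` a C-pair, `z` commutes with both and is non-C with both: `x u ∈ C(K_z)` -/
theorem triple_aux (h : Hyp Om) (h1 : ∀ K ∈ Om, ∀ L ∈ Om, zz K = zz L → K = L) (h8 : ∀ K ∈ Om, Nat.card K = 8)
    (hK : K ∈ Om) (hL : L ∈ Om) (hM : M ∈ Om) (hLM : L ≠ M) (hC : ∀ k ∈ L, zz M * k = k * zz M)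
    (hKL : zz K * zz L = zz L * zz K) (hKM : zz K * zz M = zz M * zz K)
    (hnL : ¬ ∀ k ∈ K, zz L * k = k * zz L) (hnM : ¬ ∀ k ∈ K, zz M * k = k * zz M) :
    ∀ k ∈ K, (zz L * zz M) * k = k * (zz L * zz M) := by
  have hKneL : K ≠ L := by
    rintro rfl
    exact hnL fun k hk => (h.comm_zz hK (le_normalizer hk)).symm
  have hKneM : K ≠ M := by
    rintro rfl
    exact hnM fun k hk => (h.comm_zz hK (le_normalizer hk)).symm
  have hLMc : zz L * zz M = zz M * zz L := (hC _ (h.zz_mem hL)).symm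
  have hC' := cp_symm h h8 hL hM hLM hC
  -- a conjugation of the C-pair `(A, B)` by `a` fixing `zz A` and moving `zz B` to `z zz B`
  have conj_step : ∀ {A B : Subgroup G} {a : G}, A ∈ Om → B ∈ Om → A ≠ K → (∀ k ∈ A, zz B * k = k * zz B) →
      (¬ ∀ k ∈ K, zz A * k = k * zz A) → a * zz A * a⁻¹ = zz A → a * zz B * a⁻¹ = zz K * zz B → False := by
    intro A B a hA hB hAK hAB hn ha1 ha2
    apply hn
    apply cp_symm h h8 hA hK hAK
    intro k hk
    have hcj : cj a A = A := cj_eq h h1 hA (by rw [mul_inv_eq_iff_eq_mul] at ha1; exact ha1)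
    have h5 : k ∈ cj a A := by rw [hcj]; exact hk
    rw [mem_cj] at h5
    have h6 : (zz K * zz B) * k = k * (zz K * zz B) := by
      rw [← ha2]
      have h7 := hAB _ h5
      calc a * zz B * a⁻¹ * k = a * (zz B * (a⁻¹ * k * a)) * a⁻¹ := by group
        _ = a * (a⁻¹ * k * a * zz B) * a⁻¹ := by rw [h7]
        _ = k * (a * zz B * a⁻¹) := by group
    have h8' := hAB k hk
    apply mul_right_cancel (b := zz B)
    calc zz K * k * zz B = zz K * (k * zz B) := by group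
      _ = zz K * (zz B * k) := by rw [h8']
      _ = k * (zz K * zz B) := by rw [← h6]; group
      _ = k * zz K * zz B := by group
  rcases local_two h h1 hK (h8 K hK) hKL.symm hKM.symm (h.zz_mul hL) (h.zz_mul hM) hLMc with h3 | ⟨a, ha, ha2, h3⟩
  · exact h3
  · rcases h3 with h3 | h3 | h3
    · exact (conj_step hL hM hKneL.symm hC hnL h3.1 h3.2).elim
    · exact (conj_step hM hL hKneM.symm hC' hnM h3.2 h3.1).elim
    · by_contra hcon
      -- `zx ∈ Z`
      obtain ⟨A, hA, hAz⟩ := exists_mul h h1 h8 hK hL hKL hnL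
      -- `zx` acts on `K_u` as `z`
      have hzxu : zz M * zz A = zz A * zz M := by
        rw [hAz, ← mul_assoc, ← hKM, mul_assoc, ← hLMc, mul_assoc]
      have hnMK : ¬ ∀ k ∈ M, zz K * k = k * zz K := by
        intro hh
        exact hnM (cp_symm h h8 hM hK hKneM.symm hh)
      have hnA : ¬ ∀ k ∈ M, zz A * k = k * zz A := by
        intro hh
        apply hnMK
        intro k hk
        have h5 := hh k hk
        rw [hAz] at h5
        have h6 := hC' k hk
        apply mul_right_cancel (b := zz L)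
        calc zz K * k * zz L = zz K * (k * zz L) := by group
          _ = zz K * (zz L * k) := by rw [h6]
          _ = k * (zz K * zz L) := by rw [← h5]; group
          _ = k * zz K * zz L := by group
      obtain ⟨B, hB, hBz⟩ := exists_mul h h1 h8 hM hA hzxu hnA
      -- `zz B = u z x`
      have hBz' : zz B = zz K * (zz L * zz M) := by
        rw [hBz, hAz, ← mul_assoc, ← hKM, mul_assoc, ← hLMc]
      -- `(z, z w)` : if non-C then `w ∈ Z`
      have hKB : zz K * zz B = zz B * zz K := by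
        rw [hBz']
        have e1 : (zz L * zz M) * zz K = zz K * (zz L * zz M) := by
          rw [mul_assoc, ← hKM, ← mul_assoc, ← hKL, mul_assoc]
        rw [mul_assoc (zz K) (zz L * zz M), e1]
      have hnB : ¬ ∀ k ∈ K, zz B * k = k * zz B := by
        intro hh
        apply hcon
        intro k hk
        have h5 := hh k hk
        have h6 : zz K * k = k * zz K := (h.comm_zz hK (le_normalizer hk)).symm
        rw [hBz'] at h5
        apply mul_left_cancel (a := zz K)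
        calc zz K * (zz L * zz M * k) = zz K * (zz L * zz M) * k := by group
          _ = k * zz K * (zz L * zz M) := by rw [h5]; group
          _ = zz K * (k * (zz L * zz M)) := by rw [← h6]; group
      obtain ⟨W, hW, hWz⟩ := exists_mul h h1 h8 hK hB hKB hnB
      have hWz' : zz W = zz L * zz M := by
        rw [hWz, hBz', ← mul_assoc, h.zz_mul hK, one_mul]
      -- `(w, x)` is C
      have hWL : W ≠ L := by
        rintro rfl
        rw [eq_comm, mul_eq_left] at hWz'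
        exact h.zz_ne hM hWz'
      have hLW : ∀ k ∈ L, zz W * k = k * zz W := by
        intro k hk
        have h6 : zz L * k = k * zz L := (h.comm_zz hL (le_normalizer hk)).symm
        rw [hWz', mul_assoc, hC k hk, ← mul_assoc, h6, mul_assoc]
      have hWLc := cp_symm h h8 hL hW hWL.symm hLW
      have hnW : ¬ ∀ k ∈ K, zz W * k = k * zz W := by
        rw [hWz']; exact hcon
      have hWK : W ≠ K := by
        rintro rfl
        exact hnW fun k hk => (h.comm_zz hW (le_normalizer hk)).symm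
      refine conj_step hW hL hWK hWLc hnW ?_ h3.1
      -- `a` fixes `w`
      rw [hWz']
      calc a * (zz L * zz M) * a⁻¹ = (a * zz L * a⁻¹) * (a * zz M * a⁻¹) := by group
        _ = (zz K * zz L) * (zz K * zz M) := by rw [h3.1, h3.2]
        _ = zz K * zz K * (zz L * zz M) := by
            rw [mul_assoc (zz K) (zz L), ← mul_assoc (zz L) (zz K), ← hKL]; group
        _ = zz L * zz M := by rw [h.zz_mul hK, one_mul]

end Cfsg.Agent.Cit.ROne
end

-- part: Cit/Nil/AN/Inst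
section
/-!
# The world `W` of `r = 1` is an `AW`

`W.quat_cen` : an involution commuting with `a ∈ K x` of order four acts on `K x` as `1` or as `a`;
`W.swap_cen` : the swap lemma `(3.1)`; `W.triple_cen` : the T-triple lemma; `W.toAW`.
-/

set_option autoImplicit false
set_option linter.style.haveILetI false

namespace Cfsg.Agent.Cit.Nil.ROne

open Subgroup Cfsg Cit Cfsg.Agent.OddOrderLocal.NilParts

variable {G : Type*} [Group G] {Z : Set G} {K : G → Subgroup G} {z u v x t a g : G}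

namespace W

variable (h : W Z K)

include h

/-- the centre of `K z` -/
theorem eq_of_cen (hz : z ∈ Z) (hv : v ∈ K z) (hc : Cen K v z) : v = 1 ∨ v = z := by
  have h1 : ∀ p : QEight.Q, (∀ q : QEight.Q, p * q = q * p) → p = 1 ∨ p = QuaternionGroup.a 2 := by decide
  have h2 : ∀ q : QEight.Q, h.e hz ⟨v, hv⟩ * q = q * h.e hz ⟨v, hv⟩ := by
    intro q
    obtain ⟨k, hk, rfl⟩ := h.exists_e hz q
    rw [← h.e_mul hz hv hk, ← h.e_mul hz hk hv]
    exact congrArg (h.e hz) (Subtype.ext (hc k hk))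
  rcases h1 _ h2 with h3 | h3
  · left
    rw [← map_one (h.e hz)] at h3
    exact congrArg Subtype.val ((h.e hz).injective h3)
  · right
    rw [← h.e_z hz] at h3
    exact congrArg Subtype.val ((h.e hz).injective h3)

/-- two commuting elements of order four of `K z` -/
theorem mul_of_comm (hz : z ∈ Z) {a b : G} (ha : a ∈ K z) (hb : b ∈ K z) (haa : a * a = z) (hbb : b * b = z)
    (hab : a * b = b * a) : b * a = 1 ∨ b * a = z :=
  h.uniq hz (mul_mem hb ha) (by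
    calc b * a * (b * a) = b * (a * b) * a := by group
      _ = (b * b) * (a * a) := by rw [hab]; group
      _ = 1 := by rw [haa, hbb, h.sq z hz])

/-- an involution commuting with `a ∈ K x`, `a² = x`, acts on `K x` as `1` or as `a` -/
theorem quat_cen (hx : x ∈ Z) (ha : a ∈ K x) (haa : a * a = x) (htt : t * t = 1) (hta : t * a = a * t) :
    Cen K t x ∨ Cen K (t * a) x := by
  have htx : t * x = x * t := by
    rw [← haa, ← mul_assoc, hta, mul_assoc, hta, mul_assoc]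
  have hfix : t * a * t⁻¹ = a := by rw [hta, mul_inv_cancel_right]
  have hne : a⁻¹ ≠ a := by
    intro h1
    apply h.ne x hx
    rw [← haa]
    nth_rewrite 1 [← h1]
    exact inv_mul_cancel a
  rcases h.inv_cases hx htx (by rw [htt]; exact Cen.one) with h1 | ⟨y, h1⟩ | ⟨b, h1⟩
  · exact Or.inl h1
  · right
    have h2 : y * a * y⁻¹ = a := by rw [← h1.act a ha, hfix]
    have h3 : a * y = y * a := (mul_inv_eq_iff_eq_mul.1 h2).symm
    have h4 := h.mul_of_comm hx ha h1.mem haa h1.sq h3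
    intro k hk
    rw [← mul_inv_eq_iff_eq_mul]
    have h5 : t * a * k * (t * a)⁻¹ = (y * a) * k * (y * a)⁻¹ := by
      calc t * a * k * (t * a)⁻¹ = t * (a * k * a⁻¹) * t⁻¹ := by group
        _ = y * (a * k * a⁻¹) * y⁻¹ := h1.act _ (mul_mem (mul_mem ha hk) (inv_mem ha))
        _ = (y * a) * k * (y * a)⁻¹ := by group
    rw [h5]
    rcases h4 with h4 | h4
    · rw [h4]; group
    · rw [h4, ← h.cent hx hk, mul_inv_cancel_right]
  · exfalso
    by_cases h2 : a = b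
    · subst h2
      exact hne (by rw [← h1.inv, hfix])
    · by_cases h3 : a = b⁻¹
      · have h4 : t * a * t⁻¹ = a⁻¹ := by
          rw [h3, inv_inv]
          calc t * b⁻¹ * t⁻¹ = (t * b * t⁻¹)⁻¹ := by group
            _ = b := by rw [h1.inv, inv_inv]
        exact hne (by rw [← h4, hfix])
      · exact (h1.ne a ha haa h2 h3).1 hfix

/-- **(3.1)** the swap lemma: `x` moves `u` to `v`, `(u, v)` a C-pair, then `u v ∈ C(K x)` -/
theorem swap_cen (hx : x ∈ Z) (hu : u ∈ Z) (_hv : v ∈ Z) (hc : ∀ a ∈ K u, ∀ b ∈ K v, a * b = b * a)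
    (hxu : x * u * x⁻¹ = v) : Cen K (u * v) x := by
  have hxx := h.sq x hx
  have hxi := h.inv hx
  have hK : ∀ k ∈ K u, x * k * x⁻¹ ∈ K v := by
    intro k hk
    rw [← hxu, h.conjK u hu]
    exact conj_mem_cj hk
  have hback : ∀ k : G, x * (x * k * x⁻¹) * x⁻¹ = k := by
    intro k
    calc x * (x * k * x⁻¹) * x⁻¹ = (x * x) * k * (x * x)⁻¹ := by group
      _ = k := by rw [hxx]; group
  -- `d k = k kˣ`
  obtain ⟨d, hd⟩ : ∃ d : G → G, ∀ k, d k = k * (x * k * x⁻¹) := ⟨fun k => k * (x * k * x⁻¹), fun _ => rfl⟩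
  have hdx : ∀ k ∈ K u, d k * x = x * d k := by
    intro k hk
    have h1 : x * d k * x⁻¹ = d k := by
      rw [hd]
      calc x * (k * (x * k * x⁻¹)) * x⁻¹ = (x * k * x⁻¹) * (x * (x * k * x⁻¹) * x⁻¹) := by group
        _ = (x * k * x⁻¹) * k := by rw [hback]
        _ = k * (x * k * x⁻¹) := (hc k hk _ (hK k hk)).symm
    exact (mul_inv_eq_iff_eq_mul.1 h1).symm
  have hdm : ∀ k ∈ K u, ∀ l ∈ K u, d k * d l = d (k * l) := by
    intro k _ l hl
    rename_i hk
    rw [hd, hd, hd]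
    have h1 := hc l hl _ (hK k hk)
    calc k * (x * k * x⁻¹) * (l * (x * l * x⁻¹)) = k * ((x * k * x⁻¹) * l) * (x * l * x⁻¹) := by group
      _ = k * (l * (x * k * x⁻¹)) * (x * l * x⁻¹) := by rw [h1]
      _ = k * l * (x * (k * l) * x⁻¹) := by group
  have hdu : d u = u * v := by rw [hd, hxu]
  obtain ⟨i, hi, j, hj, hii, hjj, hji, -⟩ := h.exists_ij hu
  have h1 := h.quat_act hx (hdx i hi) (hdx j hj) (w := u * v) (by rw [hdm i hi i hi, hii, hdu])
    (by rw [hdm j hj j hj, hjj, hdu]) (by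
      rw [hdm j hj i hi, hji, ← hdm u (h.mem u hu) (i * j) (mul_mem hi hj), hdu, hdm i hi j hj])
  exact h1

section fin

variable [Finite G]

/-- the T-triple lemma -/
theorem triple_cen (hx : x ∈ Z) (hu : u ∈ Z) (hv : v ∈ Z) (huv : CP K u v) (hxu : x * u = u * x) (hxv : x * v = v * x)
    (hnu : ¬ CP K x u) (hnv : ¬ CP K x v) (hxu' : x ≠ u) (hxv' : x ≠ v) : Cen K (u * v) x := by
  have hcl : ∀ z ∈ Z, K z ∈ K '' Z := fun z hz => ⟨z, hz, rfl⟩
  have h1 : ∀ A ∈ K '' Z, ∀ B ∈ K '' Z, zz A = zz B → A = B := by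
    rintro _ ⟨a, ha, rfl⟩ _ ⟨b, hb, rfl⟩ hab
    rw [h.zz_K ha, h.zz_K hb] at hab
    rw [hab]
  have h8 : ∀ A ∈ K '' Z, Nat.card A = 8 := by
    rintro _ ⟨a, ha, rfl⟩
    exact h.card8 ha
  have h2 := Cit.ROne.triple_aux h.hyp h1 h8 (hcl x hx) (hcl u hu) (hcl v hv) (fun he => huv.1 (h.K_inj hu hv he))
    (by rw [h.zz_K hv]; exact fun k hk => (huv.2 k hk v (h.mem v hv)).symm)
    (by rw [h.zz_K hx, h.zz_K hu]; exact hxu) (by rw [h.zz_K hx, h.zz_K hv]; exact hxv)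
    (by rw [h.zz_K hu]; exact fun hh => hnu (h.csymm hx hu hxu' hh))
    (by rw [h.zz_K hv]; exact fun hh => hnv (h.csymm hx hv hxv' hh))
  rwa [h.zz_K hu, h.zz_K hv] at h2

/-- the world `W` is a `BW` (several classes, no nilpotency) -/
theorem toBW : AN.BW Z K := by
  have hns : ∀ z ∈ Z, ¬ AN.Cm (K z) (K z) := by
    intro z hz hc
    obtain ⟨i, hi, j, hj, hii, hjj, hji, -⟩ := h.exists_ij hz
    have h1 := hc j hj i hi
    rw [h1] at hji
    exact h.ne z hz (mul_eq_right.1 hji.symm)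
  refine
    { sq := h.sq
      ne := h.ne
      mem := h.mem
      card := fun z hz => h.card8 hz
      uniq := fun z hz v hv hvv => h.uniq hz hv hvv
      nonab := fun z hz v hv hc => h.eq_of_cen hz hv hc
      conjZ := h.conjZ
      conjK := h.conjK
      csymm := fun z hz u hu hc hne => (h.csymm hz hu hne hc).2
      com := fun z hz u hu hne P hP h1 h2 => (h.com hz hu hP h1 h2 hne).2
      triple := fun x hx u hu v hv huv hxu hxv hnu hnv => ?_
      quat := fun x hx a ha haa t htt hta => h.quat_cen hx ha haa htt hta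
      swap := fun x hx u hu v hv hc hxu => h.swap_cen hx hu hv hc hxu }
  left
  have huv' : u ≠ v := by
    rintro rfl
    exact hns u hu huv
  by_cases hxu' : x = u
  · subst hxu'
    exact absurd huv hnv
  · by_cases hxv' : x = v
    · subst hxv'
      exact absurd huv.symm hnu
    · exact h.triple_cen hx hu hv ⟨huv', huv⟩ hxu hxv (fun hh => hnu hh.2) (fun hh => hnv hh.2) hxu' hxv'

/-- the nil world `W` is an `AW` -/
theorem toAW (hcls : OneCls Z) (hnil : NilP Z K) : AN.AW Z K := by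
  refine { toBW := h.toBW, cls := hcls, nil := fun z hz u hu hc => ?_ }
  have hne : z ≠ u := by
    rintro rfl
    exact h.toBW.not_cm_self hz hc
  obtain ⟨N, hN1, hN2, hN3, hN4⟩ := hnil z hz u hu ⟨hne, hc⟩
  exact le_oP hN1 hN3 hN2 hN4

end fin

end W

end Cfsg.Agent.Cit.Nil.ROne
end
end

-- part: Cit/Nil/Comp/TBEnd
section
prune_inst 0x1004004000000000000000000000000000000000400000200000000008000080000000000000100010000020000020020000004000000000000000000400000000000000000000000000000000000000000000000000000000000000000000000000000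
set_option linter.all false
open scoped Cfsg.Agent.FastGrp

-- part: Cit/Nil/Comp/ZStarV
section
/-!
# Glauberman's Z*-theorem modulo a central 2-subgroup

`zstar_central` : `V ≤ Z(X)` a 2-group, `z ∈ X` an involution isolated modulo `V`, `z` centralises the normal subgroups
of odd order of `X`: the `X`-conjugates of `z` commute with `z`.
-/

set_option autoImplicit false
set_option linter.style.haveILetI false

namespace Cfsg.Agent.Cit.Nil.Comp

open Subgroup Cfsg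

/-- the elements which are in the core modulo a central 2-group -/
theorem exists_of_mem_core_quot {X : Type*} [Group X] [Finite X] {V : Subgroup X} [hVn : V.Normal]
    (hVc : V ≤ center X) (hV2 : IsPGroup 2 V) {x : X} (hx : (x : X ⧸ V) ∈ pPrimeCore 2 (X ⧸ V)) :
    ∃ v ∈ V, ∃ o ∈ pPrimeCore 2 X, x = v * o := by
  set P : Subgroup X := (pPrimeCore 2 (X ⧸ V)).comap (QuotientGroup.mk' V) with hP
  haveI hcn : (pPrimeCore 2 (X ⧸ V)).Normal := Cfsg.Agent.Lib.Cores.pPrimeCore_normal 2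
  have hPn : P.Normal := inferInstance
  have hVP : V ≤ P := by
    intro w hw
    rw [hP, mem_comap]
    have h1 : (QuotientGroup.mk' V) w = 1 := by
      rw [← MonoidHom.mem_ker, QuotientGroup.ker_mk']; exact hw
    rw [h1]; exact one_mem _
  have hcard : Nat.card P = Nat.card V * Nat.card (pPrimeCore 2 (X ⧸ V)) :=
    QuotientGroup.card_preimage_mk V (pPrimeCore 2 (X ⧸ V) : Set (X ⧸ V))
  have hidx : (V.subgroupOf P).index = Nat.card (pPrimeCore 2 (X ⧸ V)) := by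
    have h4 := card_mul_index (V.subgroupOf P)
    rw [Nat.card_congr (subgroupOfEquivOfLe hVP).toEquiv, hcard] at h4
    exact Nat.eq_of_mul_eq_mul_left Nat.card_pos h4
  have hodd : Odd (V.subgroupOf P).index := by
    rw [hidx]
    exact Nat.coprime_two_right.mp (Cfsg.Agent.Lib.Cores.pPrimeCore_coprime 2)
  have hc' : V.subgroupOf P ≤ center P := by
    intro w hw
    rw [mem_center_iff]
    intro v
    ext
    have := mem_center_iff.mp (hVc (mem_subgroupOf.mp hw)) v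
    simpa using this
  haveI : (V.subgroupOf P).Normal := Cfsg.Agent.TwoFusion.IsolatedCenter.normal_of_le_center hc'
  obtain ⟨k, hk⟩ := (hV2.comap_subtype (K := P)).exists_card_eq
  have hcop : Nat.Coprime (Nat.card (V.subgroupOf P)) (V.subgroupOf P).index := by
    change Nat.card (V.subgroupOf P) = 2 ^ k at hk
    rw [hk]
    exact Nat.Coprime.pow_left _ (Nat.coprime_two_left.mpr hodd)
  obtain ⟨H, hH⟩ := exists_right_complement'_of_coprime hcop
  have hHn : H.Normal := by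
    refine ⟨fun h hh g => ?_⟩
    obtain ⟨⟨z, h'⟩, hzh⟩ := hH.2 g
    simp only at hzh
    rw [← hzh]
    have hz : (z : P) ∈ center P := hc' z.2
    have h1 : (z : P) * h' * h * ((z : P) * h')⁻¹ = (h' : P) * h * (h' : P)⁻¹ := by
      have h2 := (mem_center_iff.mp hz) ((h' : P) * h * (h' : P)⁻¹)
      calc (z : P) * h' * h * ((z : P) * h')⁻¹ = z * ((h' : P) * h * (h' : P)⁻¹) * (z : P)⁻¹ := by group
        _ = ((h' : P) * h * (h' : P)⁻¹) := by rw [← h2]; group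
    rw [h1]
    exact H.mul_mem (H.mul_mem h'.2 hh) (H.inv_mem h'.2)
  have hHcard : Nat.card H = (V.subgroupOf P).index := hH.symm.index_eq_card.symm
  have hHO : H ≤ pPrimeCore 2 P := Cfsg.Agent.Lib.Cores.le_pPrimeCore hHn (by
    rw [hHcard]
    exact Nat.coprime_two_right.mpr hodd)
  obtain ⟨⟨v, h'⟩, hvh⟩ := hH.2 (⟨x, hx⟩ : P)
  simp only at hvh
  have h5 := Cfsg.Agent.Lib.Cores.map_subtype_pPrimeCore (G := X) 2 (N := P) hPn
  refine ⟨((v : P) : X), mem_subgroupOf.mp v.2, ((h' : P) : X), ?_, (congrArg Subtype.val hvh).symm⟩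
  have h6 : ((h' : P) : X) ∈ (pPrimeCore 2 P).map P.subtype := ⟨h', hHO h'.2, rfl⟩
  rw [h5] at h6
  exact (mem_inf.1 h6).2

/-- Z* modulo a central 2-group, as a theorem on the group `X` -/
theorem zstar_central {X : Type*} [Group X] [Finite X] {V : Subgroup X} (hVc : V ≤ center X) (hV2 : IsPGroup 2 V)
    {z : X} (zz : z * z = 1) (hzV : z ∉ V)
    (iso : ∀ g : X, z * (g * z * g⁻¹) * (g * z * g⁻¹ * z)⁻¹ ∈ V → g * z * g⁻¹ * z⁻¹ ∈ V)
    (hO : ∀ n ∈ pPrimeCore 2 X, z * n = n * z) (g : X) : z * (g * z * g⁻¹) = g * z * g⁻¹ * z := by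
  haveI : V.Normal := Cfsg.Agent.TwoFusion.IsolatedCenter.normal_of_le_center hVc
  have hmk : ∀ x y : X, (x : X ⧸ V) = (y : X ⧸ V) ↔ x * y⁻¹ ∈ V := by
    intro x y
    rw [← QuotientGroup.eq_one_iff, QuotientGroup.mk_mul, QuotientGroup.mk_inv, mul_inv_eq_one]
  set zb : X ⧸ V := (z : X ⧸ V) with hzb
  have zb1 : zb ≠ 1 := fun h3 => hzV ((QuotientGroup.eq_one_iff z).1 h3)
  have zb2 : zb * zb = 1 := by
    rw [hzb, ← QuotientGroup.mk_mul, zz]; rfl
  have hiso : Cfsg.IsIsolatedInvolution zb := by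
    refine ⟨orderOf_eq_prime (by rw [pow_two]; exact zb2) zb1, ?_⟩
    intro gb hcm
    obtain ⟨g, rfl⟩ := QuotientGroup.mk_surjective gb
    have h3 : ((z * (g * z * g⁻¹) : X) : X ⧸ V) = ((g * z * g⁻¹ * z : X) : X ⧸ V) := hcm
    change ((g * z * g⁻¹ : X) : X ⧸ V) = ((z : X) : X ⧸ V)
    rw [hmk] at h3 ⊢
    exact iso g h3
  have hI : Cfsg.Agent.Involutions.ZStar.Iso zb := by
    refine ⟨zb2, fun g => ?_⟩
    have h1 := Cfsg.Agent.TwoFusion.Isolated.odd_orderOf_conj_mul hiso g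
    have h2 : zb * (g * zb * g⁻¹) = zb * (g * zb * g⁻¹ * zb) * zb⁻¹ := by group
    rw [h2]
    have h3 := (MulAut.conj zb).orderOf_eq (g * zb * g⁻¹ * zb)
    rw [MulAut.conj_apply] at h3
    rw [h3]
    exact h1
  have h5 := Cfsg.Agent.S0215.iso_commutator zb hI (g : X ⧸ V)
  have h6 : ((z * g * z⁻¹ * g⁻¹ : X) : X ⧸ V) ∈ pPrimeCore 2 (X ⧸ V) := h5
  obtain ⟨v, hv, o, ho, h7⟩ := exists_of_mem_core_quot hVc hV2 h6
  have hzi : z⁻¹ = z := inv_eq_of_mul_eq_one_right zz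
  have hvc := mem_center_iff.1 (hVc hv)
  have h8 : g * z * g⁻¹ = o⁻¹ * v⁻¹ * z := by
    have h9 : (z * g * z⁻¹ * g⁻¹)⁻¹ = (v * o)⁻¹ := by rw [h7]
    rw [mul_inv_rev v o] at h9
    rw [← h9]
    calc g * z * g⁻¹ = (z * g * z⁻¹ * g⁻¹)⁻¹ * z := by group
      _ = _ := by group
  have h10 : z * o⁻¹ = o⁻¹ * z := hO _ (inv_mem ho)
  have h11 : z * v⁻¹ = v⁻¹ * z := mem_center_iff.1 (hVc (inv_mem hv)) z
  rw [h8]
  calc z * (o⁻¹ * v⁻¹ * z) = (z * o⁻¹) * v⁻¹ * z := by group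
    _ = o⁻¹ * (z * v⁻¹) * z := by rw [h10]; group
    _ = o⁻¹ * v⁻¹ * z * z := by rw [h11]; group

variable {G : Type*} [Group G]

/-- **Z\*** modulo a central 2-group, in a subgroup `X` -/
theorem zstar_four [Finite G] {X V : Subgroup G} (hVc : ∀ v ∈ V, ∀ x ∈ X, v * x = x * v)
    (hV2 : IsPGroup 2 V) {z : G} (hzX : z ∈ X) (zz : z * z = 1) (hzV : z ∉ V)
    (iso : ∀ g ∈ X, z * (g * z * g⁻¹) * (g * z * g⁻¹ * z)⁻¹ ∈ V → g * z * g⁻¹ * z⁻¹ ∈ V)
    (hO : ∀ N : Subgroup G, N ≤ X → (∀ x ∈ X, ∀ n ∈ N, x * n * x⁻¹ ∈ N) → Odd (Nat.card N) →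
      ∀ n ∈ N, z * n = n * z) {g : G} (hg : g ∈ X) : z * (g * z * g⁻¹) = g * z * g⁻¹ * z := by
  have h1 := zstar_central (X := X) (V := V.subgroupOf X) (z := ⟨z, hzX⟩) ?_ (hV2.comap_subtype)
    (Subtype.ext zz) (fun h2 => hzV (mem_subgroupOf.1 h2)) (fun g h2 => mem_subgroupOf.2
      (iso g g.2 (mem_subgroupOf.1 h2))) ?_ ⟨g, hg⟩
  · exact congrArg Subtype.val h1
  · intro w hw
    rw [mem_center_iff]
    exact fun x => Subtype.ext (hVc _ (mem_subgroupOf.1 hw) x x.2).symm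
  · intro n hn
    apply Subtype.ext
    refine hO ((pPrimeCore 2 X).map X.subtype) (map_subtype_le _) ?_ ?_ n ⟨n, hn, rfl⟩
    · rintro x hx _ ⟨m, hm, rfl⟩
      exact ⟨⟨x, hx⟩ * m * ⟨x, hx⟩⁻¹,
        (Cfsg.Agent.Lib.Cores.pPrimeCore_normal 2 : (pPrimeCore 2 X).Normal).conj_mem m hm ⟨x, hx⟩, rfl⟩
    · rw [card_map_of_injective X.subtype_injective]
      exact Nat.coprime_two_right.mp (Cfsg.Agent.Lib.Cores.pPrimeCore_coprime (G := X) 2)

end Cfsg.Agent.Cit.Nil.Comp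
end

-- part: Cit/Nil/Comp/TB
section
/-!
# S1309 (6b), `r = 1`, COMP: the product situation with `m = 2` and two blocks, K-free (helper61)

`TB Z K z u` : `(z, u)` is a C-pair, `Z` contains no three pairwise commuting members, the frame of `z` is the union
of the blocks `{a | CP a u}` and `{b | CP b z}`.

* `BU Z K z u c` : `c` is in the block of `u`, commutes with `u`, `c ≠ u`;
* `TB.enemy` : an N-partner `x` of `z` and `u` does not commute with `c`;
* `TB.cen_bu` : `C(z u) ∩ C(c) ≤ C(z) ∩ C(u)`.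
-/

set_option autoImplicit false
set_option linter.style.haveILetI false
set_option linter.unusedSectionVars false

namespace Cfsg.Agent.Cit.Nil.Comp

open Subgroup Cfsg Cfsg.Agent.Cit Cfsg.Agent.Cit.Nil.ROne

variable {G : Type*} [Group G]

/-- two blocks, `m = 2` -/
structure TB (Z : Set G) (K : G → Subgroup G) (z u : G) : Prop where
  w : W Z K
  hz : z ∈ Z
  hu : u ∈ Z
  cp : CP K z u
  n3 : ∀ a ∈ Z, ∀ b ∈ Z, ∀ c ∈ Z, CP K a b → CP K a c → CP K b c → False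
  ab : ∀ a ∈ Z, ∀ b ∈ Z, CP K a u → CP K b z → CP K a b
  f1 : ∀ v ∈ Z, ∀ y ∈ Z, (CP K v u ∨ CP K v z) → CP K v y → (CP K y u ∨ CP K y z)
  f2 : ∀ y ∈ Z, ∀ v, (v = z ∨ v = u) → CP K v (y * v * y⁻¹) → (CP K y u ∨ CP K y z)

/-- `c` is in the block of `u`, commutes with `u` and is not `u` -/
def BU (Z : Set G) (K : G → Subgroup G) (z u c : G) : Prop := c ∈ Z ∧ CP K c z ∧ NP K c u

/-! ### Dihedral groups -/

theorem dih_pow {s t ρ : G} (hρ : ρ = s * t) (ss : s * s = 1) (tt : t * t = 1) (k : ℕ) :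
    s * ρ ^ k = (ρ ^ k)⁻¹ * s := by
  have hsi : s⁻¹ = s := inv_eq_of_mul_eq_one_right ss
  have hti : t⁻¹ = t := inv_eq_of_mul_eq_one_right tt
  have h1 : s * ρ * s⁻¹ = ρ⁻¹ := by
    rw [hρ, mul_inv_rev, hsi, hti, ← mul_assoc, ss, one_mul]
  have h2 : s * ρ ^ k * s⁻¹ = (ρ ^ k)⁻¹ := by
    rw [← conj_pow, h1, inv_pow]
  rw [← h2, inv_mul_cancel_right]

theorem dih_comm {s t ρ : G} (hρ : ρ = s * t) (x : G) (h1 : x * s = s * x) (h2 : x * t = t * x) (k : ℕ) :
    Commute x (ρ ^ k) := by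
  have h3 : Commute x ρ := by
    change x * ρ = ρ * x
    rw [hρ, ← mul_assoc, h1, mul_assoc, h2, mul_assoc]
  exact h3.pow_right k

/-- the central involution of a dihedral group -/
theorem exists_invol [Finite G] {s t : G} (ss : s * s = 1) (tt : t * t = 1) (hev : ¬ Odd (orderOf (s * t))) :
    ∃ e, e ≠ 1 ∧ e * e = 1 ∧ e * s = s * e ∧ e * t = t * e ∧ (∀ x, x * s = s * x → x * t = t * x → x * e = e * x) ∧
      ∃ r, (∀ x, x * s = s * x → x * t = t * x → x * r = r * x) ∧ (s * e = r * s * r⁻¹ ∨ s * e = r * t * r⁻¹) := by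
  obtain ⟨ρ, hρ⟩ : ∃ ρ, ρ = s * t := ⟨_, rfl⟩
  rw [← hρ] at hev
  obtain ⟨m, hm⟩ := Nat.not_odd_iff_even.1 hev
  have hpos : 0 < orderOf ρ := orderOf_pos ρ
  have hts : t = s * ρ := by rw [hρ, ← mul_assoc, ss, one_mul]
  have hdp := fun k : ℕ => dih_pow hρ ss tt k
  have hee : ρ ^ m * ρ ^ m = 1 := by rw [← pow_add, ← hm, pow_orderOf_eq_one]
  have hinv : (ρ ^ m)⁻¹ = ρ ^ m := inv_eq_of_mul_eq_one_right hee
  have hes : ρ ^ m * s = s * ρ ^ m := by rw [hdp, hinv]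
  refine ⟨ρ ^ m, ?_, hee, hes, ?_, fun x h1 h2 => (dih_comm hρ x h1 h2 m).eq, ?_⟩
  · intro h1
    have h2 := orderOf_dvd_of_pow_eq_one h1
    have h3 := Nat.le_of_dvd (by omega) h2
    omega
  · rw [hts]
    calc ρ ^ m * (s * ρ) = (ρ ^ m * s) * ρ := by group
      _ = s * (ρ ^ m * ρ) := by rw [hes, mul_assoc]
      _ = s * (ρ * ρ ^ m) := by rw [← pow_succ, ← pow_succ']
      _ = s * ρ * ρ ^ m := by rw [mul_assoc]
  · rcases Nat.even_or_odd' m with ⟨k, hk | hk⟩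
    · refine ⟨ρ ^ k, fun x h1 h2 => (dih_comm hρ x h1 h2 k).eq, Or.inl ?_⟩
      have h1 : s * (ρ ^ k)⁻¹ = ρ ^ k * s := by
        rw [mul_inv_eq_iff_eq_mul, mul_assoc, hdp, mul_inv_cancel_left]
      calc s * ρ ^ m = ρ ^ m * s := hes.symm
        _ = ρ ^ k * (ρ ^ k * s) := by rw [hk, two_mul, pow_add, mul_assoc]
        _ = ρ ^ k * (s * (ρ ^ k)⁻¹) := by rw [h1]
        _ = ρ ^ k * s * (ρ ^ k)⁻¹ := (mul_assoc _ _ _).symm
    · refine ⟨(ρ ^ k)⁻¹, fun x h1 h2 => (dih_comm hρ x h1 h2 k).inv_right.eq, Or.inr ?_⟩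
      rw [inv_inv, hts]
      calc s * ρ ^ m = s * (ρ ^ k * (ρ * ρ ^ k)) := by
            rw [← pow_succ', ← pow_add]
            congr 2
            omega
        _ = (s * ρ ^ k) * (ρ * ρ ^ k) := by group
        _ = ((ρ ^ k)⁻¹ * s) * (ρ * ρ ^ k) := by rw [hdp]
        _ = (ρ ^ k)⁻¹ * (s * ρ) * ρ ^ k := by group

/-- two involutions with a product of odd order are interchanged -/
theorem exists_swap {s t : G} (ss : s * s = 1) (tt : t * t = 1) (hodd : Odd (orderOf (s * t))) :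
    ∃ y, y * y = 1 ∧ y * s * y⁻¹ = t ∧ y * t * y⁻¹ = s ∧
      ∀ x, x * s = s * x → x * t = t * x → x * y = y * x := by
  obtain ⟨ρ, hρ⟩ : ∃ ρ, ρ = s * t := ⟨_, rfl⟩
  rw [← hρ] at hodd
  obtain ⟨m, hm⟩ := hodd
  have hts : t = s * ρ := by rw [hρ, ← mul_assoc, ss, one_mul]
  have hdp := fun k : ℕ => dih_pow hρ ss tt k
  obtain ⟨j, hj⟩ : ∃ j, j = m + 1 := ⟨_, rfl⟩
  have hyy : s * ρ ^ j * (s * ρ ^ j) = 1 := by
    calc s * ρ ^ j * (s * ρ ^ j) = s * ρ ^ j * ((ρ ^ j)⁻¹ * s) := by rw [hdp]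
      _ = s * s := by group
      _ = 1 := ss
  have hyi : (s * ρ ^ j)⁻¹ = s * ρ ^ j := inv_eq_of_mul_eq_one_right hyy
  have h1 : s * ρ ^ j * s * (s * ρ ^ j)⁻¹ = t := by
    rw [hyi]
    calc s * ρ ^ j * s * (s * ρ ^ j) = s * ρ ^ j * (s * s) * ρ ^ j := by group
      _ = s * (ρ ^ j * ρ ^ j) := by rw [ss, mul_one, mul_assoc]
      _ = s * ρ := by
        rw [← pow_add]
        have h2 : j + j = orderOf ρ + 1 := by omega
        rw [h2, pow_succ, pow_orderOf_eq_one, one_mul]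
      _ = t := hts.symm
  refine ⟨s * ρ ^ j, hyy, h1, ?_, fun x h2 h3 => ?_⟩
  · calc s * ρ ^ j * t * (s * ρ ^ j)⁻¹ = s * ρ ^ j * (s * ρ ^ j * s * (s * ρ ^ j)) * (s * ρ ^ j) := by
          rw [hyi] at h1 ⊢
          rw [h1]
      _ = (s * ρ ^ j * (s * ρ ^ j)) * s * (s * ρ ^ j * (s * ρ ^ j)) := by group
      _ = s := by rw [hyy, one_mul, mul_one]
  · have h4 := (dih_comm hρ x h2 h3 j).eq
    calc x * (s * ρ ^ j) = (x * s) * ρ ^ j := by group
      _ = s * (x * ρ ^ j) := by rw [h2, mul_assoc]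
      _ = s * ρ ^ j * x := by rw [h4, mul_assoc]

namespace TB

variable {Z : Set G} {K : G → Subgroup G} {z u : G}

section basic

variable (t : TB Z K z u) {v x y c b g : G}

include t

theorem comm : z * u = u * z := t.w.comm_of_cp t.hz t.hu t.cp

theorem symm : TB Z K u z where
  w := t.w
  hz := t.hu
  hu := t.hz
  cp := t.cp.symm
  n3 := t.n3
  ab a ha b hb h1 h2 := (t.ab b hb a ha h2 h1).symm
  f1 v hv y hy h1 h2 := (t.f1 v hv y hy h1.symm h2).symm
  f2 y hy v h1 h2 := (t.f2 y hy v h1.symm h2).symm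

theorem cen_z : Cen K (z * u) z := by
  refine Cen.mul (fun k hk => (t.w.cent t.hz hk).symm) (t.w.cen_of_cp t.hu t.cp)

theorem cen_u : Cen K (z * u) u := by
  rw [t.comm]
  exact t.symm.cen_z

theorem zz : z * z = 1 := t.w.sq z t.hz

theorem uu : u * u = 1 := t.w.sq u t.hu

theorem zzu : z * (z * u) = u := by rw [← mul_assoc, t.zz, one_mul]

theorem zuz : z * u * z = u := by rw [t.comm, mul_assoc, t.zz, mul_one]

theorem zuu : z * u * u = z := by rw [mul_assoc, t.uu, mul_one]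

/-- `g ∈ C(z u) ∩ C(z)` centralises `u` -/
theorem comm_u (hg : g * (z * u) = z * u * g) (h1 : g * z = z * g) : g * u = u * g := by
  calc g * u = g * (z * (z * u)) := by rw [t.zzu]
    _ = g * z * (z * u) := by group
    _ = z * g * (z * u) := by rw [h1]
    _ = z * (g * (z * u)) := by group
    _ = z * (z * u) * g := by rw [hg]; group
    _ = u * g := by rw [t.zzu]

theorem conj_u (hg : g * (z * u) = z * u * g) : g * u * g⁻¹ = z * u * (g * z * g⁻¹) := by
  calc g * u * g⁻¹ = g * (z * u * z) * g⁻¹ := by rw [t.zuz]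
    _ = g * (z * u) * z * g⁻¹ := by group
    _ = z * u * (g * z * g⁻¹) := by rw [hg]; group

/-- the members of `C(z u)` in the frame are `z` and `u` -/
theorem om_eq (hv : v ∈ Z) (hc : Cen K (z * u) v) (hs : CP K v u ∨ CP K v z) : v = z ∨ v = u := by
  rcases hs with h1 | h1
  · have h2 : Cen K u v := fun k hk => (h1.2 k hk u (t.w.mem u t.hu)).symm
    have h3 := hc.mul h2
    rw [t.zuu] at h3
    rcases (t.w.cen_iff hv t.hz).1 h3 with h4 | h4
    · exact Or.inl h4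
    · exact (t.n3 v hv z t.hz u t.hu h4 h1 t.cp).elim
  · have h2 : Cen K z v := fun k hk => (h1.2 k hk z (t.w.mem z t.hz)).symm
    have h3 := hc.mul h2
    rw [t.zuz] at h3
    rcases (t.w.cen_iff hv t.hu).1 h3 with h4 | h4
    · exact Or.inr h4
    · exact (t.n3 v hv z t.hz u t.hu h1 h4 t.cp).elim

theorem cases (c1 : v * z = z * v) (c2 : v * u = u * v) :
    v = z ∨ v = u ∨ CP K v z ∨ CP K v u ∨ (NP K v z ∧ NP K v u) := by
  by_cases h1 : v = z
  · exact Or.inl h1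
  by_cases h2 : v = u
  · exact Or.inr (Or.inl h2)
  by_cases h3 : CP K v z
  · exact Or.inr (Or.inr (Or.inl h3))
  by_cases h4 : CP K v u
  · exact Or.inr (Or.inr (Or.inr (Or.inl h4)))
  exact Or.inr (Or.inr (Or.inr (Or.inr ⟨⟨h1, c1, h3⟩, h2, c2, h4⟩)))

theorem bu_of (hc : c ∈ Z) (h1 : CP K c z) (h2 : c * u = u * c) (h3 : c ≠ u) : BU Z K z u c :=
  ⟨hc, h1, h3, h2, fun h4 => t.n3 c hc z t.hz u t.hu h1 h4 t.cp⟩

theorem not_om (hc : BU Z K z u c) : ¬ Cen K (z * u) c := by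
  intro h1
  have h2 : Cen K z c := fun k hk => (hc.2.1.2 k hk z (t.w.mem z t.hz)).symm
  have h3 := h1.mul h2
  rw [t.zuz] at h3
  rcases (t.w.cen_iff hc.1 t.hu).1 h3 with h4 | h4
  · exact hc.2.2.1 h4
  · exact hc.2.2.2.2 h4

theorem bu_comm (hc : BU Z K z u c) : c * z = z * c := t.w.comm_of_cp hc.1 t.hz hc.2.1

theorem bu_comm_h (hc : BU Z K z u c) : c * (z * u) = z * u * c := by
  rw [← mul_assoc, t.bu_comm hc, mul_assoc, hc.2.2.2.1, mul_assoc]

/-- conjugation by an element of `C(z u)` fusing elements of the block of `u` -/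
theorem conj_z (hc : c ∈ Z) (hcz : CP K c z) (hg : g * (z * u) = z * u * g)
    (h1 : CP K (g * c * g⁻¹) u ∨ CP K (g * c * g⁻¹) z) : g * z * g⁻¹ = z ∨ g * z * g⁻¹ = u := by
  have hv : g * z * g⁻¹ ∈ Z := t.w.conjZ z t.hz g
  have h2 : CP K (g * c * g⁻¹) (g * z * g⁻¹) := t.w.cp_conj hc t.hz hcz g
  refine t.om_eq hv ?_ (t.f1 _ (t.w.conjZ c hc g) _ hv h1 h2)
  have h3 := t.w.cen_conj t.hz g t.cen_z
  rwa [hg, mul_inv_cancel_right] at h3

/-- `C(z u) ∩ C(c) ≤ C(z) ∩ C(u)` -/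
theorem cen_bu (hc : BU Z K z u c) (hg : g * (z * u) = z * u * g) (hgc : g * c = c * g) :
    g * z = z * g ∧ g * u = u * g := by
  have h1 : g * c * g⁻¹ = c := by rw [hgc, mul_inv_cancel_right]
  have h2 : g * z * g⁻¹ = z := by
    rcases t.conj_z hc.1 hc.2.1 hg (by rw [h1]; exact Or.inr hc.2.1) with h3 | h3
    · exact h3
    · exfalso
      have h4 := t.w.cp_conj hc.1 t.hz hc.2.1 g
      rw [h1, h3] at h4
      exact hc.2.2.2.2 h4
  have h3 : g * z = z * g := mul_inv_eq_iff_eq_mul.1 h2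
  exact ⟨h3, t.comm_u hg h3⟩

/-- two elements of `BU` fused in `C(z u)` -/
theorem bu_conj (hc : BU Z K z u c) (hg : g * (z * u) = z * u * g) (hc' : BU Z K z u (g * c * g⁻¹)) :
    g * z * g⁻¹ = z := by
  rcases t.conj_z hc.1 hc.2.1 hg (Or.inr hc'.2.1) with h3 | h3
  · exact h3
  · exfalso
    have h4 := t.w.cp_conj hc.1 t.hz hc.2.1 g
    rw [h3] at h4
    exact hc'.2.2.2.2 h4

/-- no element of `Z` interchanges `z` and `u` -/
theorem no_swap (hy : y ∈ Z) (h1 : y * z * y⁻¹ = u) : False := by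
  have h2 : y * u * y⁻¹ = z := by
    rw [← h1]
    have hyy := t.w.sq y hy
    calc y * (y * z * y⁻¹) * y⁻¹ = (y * y) * z * (y * y)⁻¹ := by group
      _ = z := by rw [hyy]; group
  rcases t.f2 y hy z (Or.inl rfl) (by rw [h1]; exact t.cp) with h3 | h3
  · have h4 := t.w.comm_of_cp hy t.hu h3
    rw [h4, mul_inv_cancel_right] at h2
    exact t.cp.1 h2.symm
  · have h4 := t.w.comm_of_cp hy t.hz h3
    rw [h4, mul_inv_cancel_right] at h1
    exact t.cp.1 h1

end basic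

section fin

variable [Finite G] (t : TB Z K z u) {v x y c b g : G}

include t

/-- N-partners of both `z` and `u` -/
theorem om_of_np (hx : x ∈ Z) (n1 : NP K x z) (n2 : NP K x u) : Cen K (z * u) x :=
  t.w.triple_cen hx t.hz t.hu t.cp n1.2.1 n2.2.1 n1.2.2 n2.2.2 n1.1 n2.1

/-- **`x` does not commute with `c`** -/
theorem enemy (hx : x ∈ Z) (n1 : NP K x z) (n2 : NP K x u) (hc : BU Z K z u c) : x * c ≠ c * x := by
  intro hxc
  have hne : x ≠ c := by
    rintro rfl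
    exact n1.2.2 hc.2.1
  have hs : ∀ {w : G}, w ∈ Z → CP K w z → ¬ CP K x w := by
    intro w hw h1 h2
    rcases t.f1 w hw x hx (Or.inr h1) h2.symm with h3 | h3
    · exact n2.2.2 h3
    · exact n1.2.2 h3
  have nc : NP K x c := ⟨hne, hxc, hs hc.1 hc.2.1⟩
  have h1 := t.om_of_np hx n1 n2
  have h2 := t.w.triple_cen hx t.hz hc.1 hc.2.1.symm n1.2.1 nc.2.1 n1.2.2 nc.2.2 n1.1 nc.1
  have h3 : Cen K (u * c) x := by
    have h4 := h1.mul h2
    have h5 : z * u * (z * c) = u * c := by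
      rw [← mul_assoc, t.zuz]
    rwa [h5] at h4
  have nuc : NP K u c := hc.2.2.symm
  obtain ⟨a, ha, -, -, h4, -⟩ := t.w.flip t.hu hc.1 nuc
  have hucZ := t.w.mul_mem_of_np t.hu hc.1 nuc
  have haz : a * z * a⁻¹ = z := by
    rw [mul_inv_eq_iff_eq_mul]
    exact (t.cp.2 z (t.w.mem z t.hz) a ha).symm
  have h5 : CP K (u * c) z := by
    have h6 := t.w.cp_conj hc.1 t.hz hc.2.1 a
    rwa [h4, haz] at h6
  rcases (t.w.cen_iff hx hucZ).1 h3 with h6 | h6
  · rw [h6] at n1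
    exact n1.2.2 h5
  · exact hs hucZ h5 h6

end fin

end TB

end Cfsg.Agent.Cit.Nil.Comp
end

-- part: Cit/Nil/Comp/TBOdd
section
/-!
# S1309 (6b), `r = 1`, COMP: the product situation with `m = 2` and two blocks, K-free (helper61)

* `TB.cen_e` : `C(z u) ∩ C(c b)` stabilises `{z, u}` (`c` in the block of `u`, `b` in the block of `z`);
* `TB.odd_of` : `c (c')^g` has odd order for `g ∈ C(z u)` not stabilising `{z, u}`.
-/

set_option autoImplicit false
set_option linter.style.haveILetI false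
set_option linter.unusedSectionVars false

namespace Cfsg.Agent.Cit.Nil.Comp

open Subgroup Cfsg Cfsg.Agent.Cit Cfsg.Agent.Cit.Nil.ROne

variable {G : Type*} [Group G]

namespace TB

variable {Z : Set G} {K : G → Subgroup G} {z u : G} [Finite G] (t : TB Z K z u) {v x y c b g : G}

include t

theorem cp_bc (hc : BU Z K z u c) (hb : BU Z K u z b) : CP K b c := t.ab b hb.1 c hc.1 hb.2.1 hc.2.1

/-- `u c` is in the block of `u` -/
theorem bu_mul (hc : BU Z K z u c) : BU Z K z u (u * c) := by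
  obtain ⟨a, ha, -, -, h4, -⟩ := t.w.flip t.hu hc.1 hc.2.2.symm
  have haz : a * z * a⁻¹ = z := by
    rw [mul_inv_eq_iff_eq_mul]
    exact (t.cp.2 z (t.w.mem z t.hz) a ha).symm
  have h6 := t.w.cp_conj hc.1 t.hz hc.2.1 a
  rw [h4, haz] at h6
  exact ⟨t.w.mul_mem_of_np t.hu hc.1 hc.2.2.symm, h6, (t.w.np_mul t.hu hc.1 hc.2.2.symm).symm⟩

/-- **(8a)** : members of `C(z u)` commuting with `z` and `c b` -/
theorem iso_aux (hc : BU Z K z u c) (hb : BU Z K u z b) (hv : v ∈ Z) (hvh : Cen K (z * u) v)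
    (hve : v * (c * b) = c * b * v) (hvz : v * z = z * v) : v = z ∨ v = u := by
  have hvh' : v * (z * u) = z * u * v := (hvh v (t.w.mem v hv)).symm
  have hvu := t.comm_u hvh' hvz
  rcases t.cases hvz hvu with h1 | h1 | h1 | h1 | ⟨n1, n2⟩
  · exact Or.inl h1
  · exact Or.inr h1
  · exact t.om_eq hv hvh (Or.inr h1)
  · exact t.om_eq hv hvh (Or.inl h1)
  exfalso
  have hne : v * c ≠ c * v := t.enemy hv n1 n2 hc
  have hcc := t.w.sq c hc.1
  have hbb := t.w.sq b hb.1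
  set c' := v * c * v⁻¹ with hc'
  set b' := v * b * v⁻¹ with hb'
  have hcZ : c' ∈ Z := t.w.conjZ c hc.1 v
  have hbZ : b' ∈ Z := t.w.conjZ b hb.1 v
  have e1 : v * z * v⁻¹ = z := by rw [hvz, mul_inv_cancel_right]
  have e2 : v * u * v⁻¹ = u := by rw [hvu, mul_inv_cancel_right]
  have c1 : CP K c' z := by
    have h1 := t.w.cp_conj hc.1 t.hz hc.2.1 v
    rwa [e1] at h1
  have b1 : CP K b' u := by
    have h1 := t.w.cp_conj hb.1 t.hu hb.2.1 v
    rwa [e2] at h1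
  have c2 : c' ≠ c := by
    intro h1
    apply hne
    rw [hc', mul_inv_eq_iff_eq_mul] at h1
    exact h1
  -- `c c' = b b'`
  have h1 : c' * b' = c * b := by
    calc c' * b' = v * (c * b) * v⁻¹ := by rw [hc', hb']; group
      _ = c * b := by rw [hve, mul_inv_cancel_right]
  have cpbc : CP K b c := t.cp_bc hc hb
  have cpb'c : CP K b' c := t.ab b' hbZ c hc.1 b1 hc.2.1
  have hbc : b * c = c * b := t.w.comm_of_cp hb.1 hc.1 cpbc
  have hb'b' := t.w.sq b' hbZ
  have h2 : c * c' = b * b' := by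
    calc c * c' = c * (c' * b') * b' := by
          rw [mul_assoc c, mul_assoc c', hb'b', mul_one]
      _ = c * (c * b) * b' := by rw [h1]
      _ = (c * c) * b * b' := by group
      _ = b * b' := by rw [hcc, one_mul]
  have hcen : Cen K (c * c') c := by
    rw [h2]
    exact Cen.mul (fun k hk => cpbc.2 b (t.w.mem b hb.1) k hk) (fun k hk => cpb'c.2 b' (t.w.mem b' hbZ) k hk)
  have h3 : c * c' = c' * c := by
    have h4 := hcen c (t.w.mem c hc.1)
    -- `c c' c = c c c'`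
    rw [mul_assoc] at h4
    exact (mul_left_cancel h4).symm
  have hncp : ¬ CP K c c' := fun h4 => t.n3 c hc.1 c' hcZ z t.hz h4 hc.2.1 c1
  have np : NP K c c' := ⟨Ne.symm c2, h3, hncp⟩
  have h5 := t.w.np_mul hc.1 hcZ np
  rcases (t.w.cen_iff hc.1 (t.w.mul_mem_of_np hc.1 hcZ np)).1 hcen with h6 | h6
  · exact h5.1 h6
  · exact h5.2.2 h6

/-- **(8)** : `C(z u) ∩ C(c b)` stabilises `{z, u}` -/
theorem cen_e (hc : BU Z K z u c) (hb : BU Z K u z b) (hg : g * (z * u) = z * u * g)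
    (hge : g * (c * b) = c * b * g) : g * z * g⁻¹ = z ∨ g * z * g⁻¹ = u := by
  obtain ⟨h, hh⟩ : ∃ h, h = z * u := ⟨_, rfl⟩
  obtain ⟨e, he⟩ : ∃ e, e = c * b := ⟨_, rfl⟩
  have cpbc : CP K b c := t.cp_bc hc hb
  have hbc : b * c = c * b := t.w.comm_of_cp hb.1 hc.1 cpbc
  have hcc := t.w.sq c hc.1
  have hbb := t.w.sq b hb.1
  have hhh : h * h = 1 := by
    rw [hh]
    calc z * u * (z * u) = z * u * z * u := by group
      _ = 1 := by rw [t.zuz, t.uu]
  have hee : e * e = 1 := by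
    rw [he]
    calc c * b * (c * b) = c * (b * c) * b := by group
      _ = (c * c) * (b * b) := by rw [hbc]; group
      _ = 1 := by rw [hcc, hbb, one_mul]
  have hcz := t.bu_comm hc
  have hcu := hc.2.2.2.1
  have hbu : b * u = u * b := t.w.comm_of_cp hb.1 t.hu hb.2.1
  have hbz : b * z = z * b := hb.2.2.2.1
  have hze : z * e = e * z := by
    rw [he, ← mul_assoc, ← hcz, mul_assoc, ← hbz, mul_assoc]
  have hue : u * e = e * u := by
    rw [he, ← mul_assoc, ← hcu, mul_assoc, ← hbu, mul_assoc]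
  have hhe : h * e = e * h := by
    rw [hh, mul_assoc, hue, ← mul_assoc, hze, mul_assoc]
  have hzh : z * h = h * z := by rw [hh, ← mul_assoc, mul_assoc z u z, ← t.comm, ← mul_assoc]
  -- the four-group `V`
  obtain ⟨V, hV⟩ : ∃ V : Subgroup G, ∀ x, x ∈ V ↔ x = 1 ∨ x = h ∨ x = e ∨ x = h * e := by
    have ehe : e * (h * e) = h := by rw [hhe, ← mul_assoc, hee, one_mul]
    have hhe2 : h * (h * e) = e := by rw [← mul_assoc, hhh, one_mul]
    have heh : h * e * h = e := by rw [hhe, mul_assoc, hhh, mul_one]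
    have hee2 : h * e * e = h := by rw [mul_assoc, hee, mul_one]
    have hehe : h * e * (h * e) = 1 := by rw [← mul_assoc, heh, hee]
    have hi : h⁻¹ = h := inv_eq_of_mul_eq_one_right hhh
    have ei : e⁻¹ = e := inv_eq_of_mul_eq_one_right hee
    refine ⟨{ carrier := {x | x = 1 ∨ x = h ∨ x = e ∨ x = h * e}
              one_mem' := Or.inl rfl
              mul_mem' := ?_
              inv_mem' := ?_ }, fun x => Iff.rfl⟩
    · rintro x y (rfl | rfl | rfl | rfl) (rfl | rfl | rfl | rfl)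
      all_goals simp only [one_mul, mul_one, hhh, hee, ehe, hhe2, heh, hee2, hehe, hhe.symm, Set.mem_ofPred_eq,
        true_or, or_true]
    · rintro x (rfl | rfl | rfl | rfl)
      · exact Or.inl inv_one
      · exact Or.inr (Or.inl hi)
      · exact Or.inr (Or.inr (Or.inl ei))
      · refine Or.inr (Or.inr (Or.inr ?_))
        rw [mul_inv_rev, hi, ei, hhe]
  have hXdef : ∀ x, x ∈ centralizer ({h, e} : Set G) ↔ x * h = h * x ∧ x * e = e * x := by
    intro x
    rw [mem_centralizer_iff]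
    constructor
    · exact fun h1 => ⟨(h1 h (Or.inl rfl)).symm, (h1 e (Or.inr rfl)).symm⟩
    · rintro ⟨h1, h2⟩ y (rfl | rfl)
      · exact h1.symm
      · exact h2.symm
  obtain ⟨X, hX⟩ : ∃ X : Subgroup G, ∀ x, x ∈ X ↔ x * h = h * x ∧ x * e = e * x := ⟨_, hXdef⟩
  have hzX : z ∈ X := (hX z).2 ⟨hzh, hze⟩
  -- conjugates of `z`
  have conjX : ∀ x ∈ X, x * z * x⁻¹ ∈ Z ∧ Cen K (z * u) (x * z * x⁻¹) ∧ x * z * x⁻¹ * (c * b) = c * b * (x * z * x⁻¹) := by
    intro x hx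
    obtain ⟨h1, h2⟩ := (hX x).1 hx
    refine ⟨t.w.conjZ z t.hz x, ?_, ?_⟩
    · have h3 := t.w.cen_conj t.hz x t.cen_z
      rw [← hh] at h3 ⊢
      rwa [h1, mul_inv_cancel_right] at h3
    · rw [← he]
      have h3 : x⁻¹ * e = e * x⁻¹ := by
        rw [inv_mul_eq_iff_eq_mul, ← mul_assoc, h2, mul_inv_cancel_right]
      calc x * z * x⁻¹ * e = x * z * (x⁻¹ * e) := by group
        _ = x * (z * e) * x⁻¹ := by rw [h3]; group
        _ = (x * e) * z * x⁻¹ := by rw [hze]; group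
        _ = e * (x * z * x⁻¹) := by rw [h2]; group
  have hnc : ¬ Cen K c u := by
    intro h1
    rcases (t.w.cen_iff t.hu hc.1).1 h1 with h2 | h2
    · exact hc.2.2.1 h2.symm
    · exact hc.2.2.2.2 h2.symm
  have key : ∀ x ∈ X, z * (x * z * x⁻¹) = x * z * x⁻¹ * z → x * z * x⁻¹ = z ∨ x * z * x⁻¹ = u := fun x hx h1 =>
    t.iso_aux hc hb (conjX x hx).1 (conjX x hx).2.1 (conjX x hx).2.2 h1.symm
  have hgX : g ∈ X := (hX g).2 ⟨by rw [hh]; exact hg, by rw [he]; exact hge⟩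
  refine key g hgX (zstar_four (X := X) (V := V) ?_ ?_ hzX t.zz ?_ ?_ ?_ hgX)
  · intro v hv x hx
    obtain ⟨h1, h2⟩ := (hX x).1 hx
    rcases (hV v).1 hv with rfl | rfl | rfl | rfl
    · rw [one_mul, mul_one]
    · exact h1.symm
    · exact h2.symm
    · rw [mul_assoc, ← h2, ← mul_assoc, ← h1, mul_assoc]
  · intro v
    refine ⟨1, Subtype.ext ?_⟩
    change (v : G) ^ (2 ^ 1) = 1
    rw [pow_one, pow_two]
    rcases (hV v).1 v.2 with h1 | h1 | h1 | h1
    · rw [h1, one_mul]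
    · rw [h1, hhh]
    · rw [h1, hee]
    · rw [h1, ← mul_assoc, mul_assoc h e h, ← hhe, ← mul_assoc, hhh, one_mul, hee]
  · -- `z ∉ V`
    intro hzV
    have hzne := t.w.ne z t.hz
    rcases (hV z).1 hzV with h1 | h1 | h1 | h1
    · exact hzne h1
    · rw [hh] at h1
      exact t.w.ne u t.hu (mul_eq_left.1 h1.symm)
    · -- `z = c b`
      have h2 : c = z * b := by rw [h1, he, mul_assoc, hbb, mul_one]
      refine hnc ?_
      rw [h2]
      exact Cen.mul (fun k hk => t.cp.2 z (t.w.mem z t.hz) k hk) (fun k hk => hb.2.1.2 b (t.w.mem b hb.1) k hk)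
    · have h2 : c = u * b := by
        have h3 : u * (c * b) = 1 := by
          have h4 : z * (u * (c * b)) = z * 1 := by
            rw [mul_one, ← mul_assoc, ← hh, ← he]
            exact h1.symm
          exact mul_left_cancel h4
        have h4 : c * b = u := by
          rw [← t.w.inv t.hu]
          exact (inv_eq_of_mul_eq_one_right h3).symm
        rw [← h4, mul_assoc, hbb, mul_one]
      refine hnc ?_
      rw [h2]
      exact Cen.mul (fun k hk => (t.w.cent t.hu hk).symm) (fun k hk => hb.2.1.2 b (t.w.mem b hb.1) k hk)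
  · -- `z` is isolated modulo `V`
    intro x hx h1
    set v := x * z * x⁻¹ with hv
    have hvX : v ∈ X := mul_mem (mul_mem hx hzX) (inv_mem hx)
    obtain ⟨s, hs⟩ : ∃ s, s = z * v * (v * z)⁻¹ := ⟨_, rfl⟩
    rw [← hs] at h1
    have hsz : s * z = z * s := by
      rcases (hV s).1 h1 with h2 | h2 | h2 | h2
      · rw [h2, one_mul, mul_one]
      · rw [h2, hzh]
      · rw [h2, hze]
      · rw [h2, mul_assoc, ← hze, ← mul_assoc, ← hzh, mul_assoc]
    have hss : s * s = 1 := by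
      rcases (hV s).1 h1 with h2 | h2 | h2 | h2
      · rw [h2, one_mul]
      · rw [h2, hhh]
      · rw [h2, hee]
      · rw [h2, ← mul_assoc, mul_assoc h e h, ← hhe, ← mul_assoc, hhh, one_mul, hee]
    have h3 : z * v = s * (v * z) := by rw [hs]; group
    have h4 : v * z * v⁻¹ = s * z := by
      have h5 : v * z = s * (z * v) := by rw [h3, ← mul_assoc s s, hss, one_mul]
      rw [h5]; group
    have h5 : z * (v * z * v⁻¹) = v * z * v⁻¹ * z := by
      rw [h4, ← mul_assoc, ← hsz]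
    have hvZ := (conjX x hx).1
    rw [← hv] at hvZ
    have hs1 : s = 1 := by
      rcases key v hvX h5 with h6 | h6
      · rw [h4] at h6
        exact mul_eq_right.1 h6
      · exact (t.no_swap hvZ h6).elim
    rw [hs1, one_mul] at h3
    rcases key x hx h3 with h6 | h6
    · rw [← hv] at h6
      rw [h6, mul_inv_cancel]
      exact one_mem V
    · rw [← hv] at h6
      rw [h6, t.w.inv t.hz, ← t.comm, ← hh]
      exact (hV h).2 (Or.inr (Or.inl rfl))
  · -- the core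
    intro N hNX hNn hNo n hn
    have hbX : b ∈ X := (hX b).2 ⟨by rw [hh, ← mul_assoc, hbz, mul_assoc, hbu, mul_assoc], by
      rw [he, ← mul_assoc, hbc, mul_assoc]⟩
    have h1 : N ≤ centralizer {z} := by
      refine Cfsg.Agent.Lib.KleinGen.le_of_klein N _ hNo z b t.zz hbb hbz.symm (fun h h1 => hNn z hzX h h1)
        (fun h h1 => hNn b hbX h h1) inf_le_right ?_ ?_
      · intro m hm
        have h2 := mem_centralizer_singleton_iff.1 (mem_inf.1 hm).2
        have h3 := ((hX m).1 (hNX (mem_inf.1 hm).1)).1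
        rw [hh, t.comm] at h3
        exact mem_centralizer_singleton_iff.2 (t.symm.cen_bu hb h3 h2).2
      · intro m hm
        have h2 := mem_centralizer_singleton_iff.1 (mem_inf.1 hm).2
        have h3 := ((hX m).1 (hNX (mem_inf.1 hm).1)).1
        rw [hh, t.comm] at h3
        exact mem_centralizer_singleton_iff.2 (t.symm.cen_bu (t.symm.bu_mul hb) h3 h2).2
    exact (mem_centralizer_singleton_iff.1 (h1 hn)).symm

/-- a conjugate of an element of `BU` which centralises `z` and `u` -/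
theorem of_conj (hc : BU Z K z u c) (hg : g * (z * u) = z * u * g) (h1 : g * c * g⁻¹ * z = z * (g * c * g⁻¹))
    (h2 : g * c * g⁻¹ * u = u * (g * c * g⁻¹)) : g * z * g⁻¹ = z ∨ g * z * g⁻¹ = u := by
  have hZ : g * c * g⁻¹ ∈ Z := t.w.conjZ c hc.1 g
  have hn : ¬ Cen K (z * u) (g * c * g⁻¹) := by
    intro h3
    apply t.not_om hc
    have h4 := t.w.cen_conj hZ g⁻¹ h3
    have e1 : g⁻¹ * (g * c * g⁻¹) * g⁻¹⁻¹ = c := by group
    have e2 : g⁻¹ * (z * u) * g⁻¹⁻¹ = z * u := by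
      rw [inv_inv, mul_assoc, ← hg, inv_mul_cancel_left]
    rwa [e1, e2] at h4
  rcases t.cases h1 h2 with h3 | h3 | h3 | h3 | ⟨n1, n2⟩
  · exact (hn (by rw [h3]; exact t.cen_z)).elim
  · exact (hn (by rw [h3]; exact t.cen_u)).elim
  · exact t.conj_z hc.1 hc.2.1 hg (Or.inr h3)
  · exact t.conj_z hc.1 hc.2.1 hg (Or.inl h3)
  · exact (hn (t.om_of_np hZ n1 n2)).elim

/-- **(10)** : `c₁ c₂^g` has odd order, if `g ∈ C(z u)` does not stabilise `{z, u}` -/
theorem odd_of {c₁ c₂ : G} (hc1 : BU Z K z u c₁) (hc2 : BU Z K z u c₂) (hg : g * (z * u) = z * u * g)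
    (hgz : g * z * g⁻¹ ≠ z) (hgu : g * z * g⁻¹ ≠ u) : Odd (orderOf (c₁ * (g * c₂ * g⁻¹))) := by
  by_contra hodd
  obtain ⟨c, hc⟩ : ∃ c, c = g * c₂ * g⁻¹ := ⟨_, rfl⟩
  rw [← hc] at hodd
  have hcZ : c ∈ Z := by rw [hc]; exact t.w.conjZ c₂ hc2.1 g
  have hch : c * (z * u) = z * u * c := by
    have h1 : g⁻¹ * (z * u) = z * u * g⁻¹ := by
      rw [inv_mul_eq_iff_eq_mul, ← mul_assoc, hg, mul_inv_cancel_right]
    calc c * (z * u) = g * c₂ * (g⁻¹ * (z * u)) := by rw [hc]; group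
      _ = g * (c₂ * (z * u)) * g⁻¹ := by rw [h1]; group
      _ = (g * (z * u)) * c₂ * g⁻¹ := by rw [t.bu_comm_h hc2]; group
      _ = z * u * c := by rw [hg, hc]; group
  -- `c` does not centralise `z`
  have hn : ¬ (c * z = z * c) := by
    intro h1
    have h2 := t.comm_u hch h1
    rw [hc] at h1 h2
    exact (t.of_conj hc2 hg h1 h2).elim hgz hgu
  obtain ⟨e, he1, hee, hes, het, hex, r, hr, hrr⟩ := exists_invol (t.w.sq c₁ hc1.1) (t.w.sq c hcZ) hodd
  have hhr : r * (z * u) = z * u * r := (hr (z * u) (t.bu_comm_h hc1).symm hch.symm).symm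
  have hhe : e * (z * u) = z * u * e := (hex (z * u) (t.bu_comm_h hc1).symm hch.symm).symm
  obtain ⟨b, hb⟩ : ∃ b, b = c₁ * e := ⟨_, rfl⟩
  have hcc := t.w.sq c₁ hc1.1
  have hbc : b * c₁ = c₁ * b := by rw [hb, mul_assoc, hes]
  have hbne : b ≠ c₁ := fun h1 => he1 (by rw [hb] at h1; exact mul_eq_left.1 h1)
  have heb : e = c₁ * b := by rw [hb, ← mul_assoc, hcc, one_mul]
  have hbh : b * (z * u) = z * u * b := by
    rw [hb, mul_assoc, hhe, ← mul_assoc, t.bu_comm_h hc1, mul_assoc]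
  -- `b` is a conjugate of `c₁` or `c`
  have hbZ : b ∈ Z := by
    rw [hb]
    rcases hrr with h1 | h1
    · rw [h1]; exact t.w.conjZ c₁ hc1.1 r
    · rw [h1]; exact t.w.conjZ c hcZ r
  have hconj : ∀ {y : G}, y ∈ Z → ∀ {k : G}, k * (z * u) = z * u * k → Cen K (z * u) (k * y * k⁻¹) → Cen K (z * u) y := by
    intro y hy k hk h3
    have h4 := t.w.cen_conj (t.w.conjZ y hy k) k⁻¹ h3
    have e1 : k⁻¹ * (k * y * k⁻¹) * k⁻¹⁻¹ = y := by group
    have e2 : k⁻¹ * (z * u) * k⁻¹⁻¹ = z * u := by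
      rw [inv_inv, mul_assoc, ← hk, inv_mul_cancel_left]
    rwa [e1, e2] at h4
  have hbn : ¬ Cen K (z * u) b := by
    intro h1
    rw [hb] at h1
    rcases hrr with h2 | h2
    · rw [h2] at h1
      exact t.not_om hc1 (hconj hc1.1 hhr h1)
    · rw [h2] at h1
      have h3 := hconj hcZ hhr h1
      rw [hc] at h3
      exact t.not_om hc2 (hconj hc2.1 hg h3)
  -- `b` centralises `z`, `u`
  obtain ⟨hbz, hbu⟩ := t.cen_bu hc1 hbh hbc
  have hce : c * (c₁ * b) = c₁ * b * c := by rw [← heb]; exact het.symm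
  rcases t.cases hbz hbu with h1 | h1 | h1 | h1 | ⟨n1, n2⟩
  · exact hbn (by rw [h1]; exact t.cen_z)
  · exact hbn (by rw [h1]; exact t.cen_u)
  · -- `b ∈ BU z u`
    by_cases h2 : b = u
    · exact hbn (by rw [h2]; exact t.cen_u)
    have hbB : BU Z K z u b := t.bu_of hbZ h1 hbu h2
    have hncp : ¬ CP K c₁ b := fun h3 => t.n3 c₁ hc1.1 b hbZ z t.hz h3 hc1.2.1 h1
    have np : NP K c₁ b := ⟨Ne.symm hbne, hbc.symm, hncp⟩
    have heZ : e ∈ Z := by rw [heb]; exact t.w.mul_mem_of_np hc1.1 hbZ np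
    have hez : CP K e z := by
      obtain ⟨a, ha, -, -, h4, -⟩ := t.w.flip hc1.1 hbZ np
      have haz : a * z * a⁻¹ = z := by
        rw [mul_inv_eq_iff_eq_mul]
        exact hc1.2.1.2 a ha z (t.w.mem z t.hz)
      have h6 := t.w.cp_conj hbZ t.hz h1 a
      rwa [h4, haz, ← heb] at h6
    have heu : e * u = u * e := by
      rw [heb, mul_assoc, hbu, ← mul_assoc, hc1.2.2.2.1, mul_assoc]
    by_cases h3 : e = u
    · -- `c` centralises `u`
      have hcu : c * u = u * c := by rw [← h3]; exact het.symm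
      apply hn
      have h4 : c * (u * z) = u * z * c := by rw [← t.comm]; exact hch
      exact t.symm.comm_u h4 hcu
    · exact hn (t.cen_bu (t.bu_of heZ hez heu h3) hch het.symm).1
  · -- `b ∈ BU u z`
    by_cases h2 : b = z
    · exact hbn (by rw [h2]; exact t.cen_z)
    have hbB : BU Z K u z b := t.symm.bu_of hbZ h1 hbz h2
    rcases t.cen_e hc1 hbB hch hce with h3 | h3
    · exact hn (mul_inv_eq_iff_eq_mul.1 h3)
    · exact t.no_swap hcZ h3
  · exact hbn (t.om_of_np hbZ n1 n2)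

end TB

end Cfsg.Agent.Cit.Nil.Comp
end

-- part: Cit/Nil/Comp/TBEnd
section
/-!
# S1309 (6b), `r = 1`, COMP: the product situation with `m = 2` and two blocks, K-free: the end (helper61)

* `Ax K y u k` : `k` is an axis of `y` in `K u` (`y` acts on `K u` as `k`, or as a transposition inverting `k`);
* `TB.om_conj` : the members of `C(z u)` are conjugates of `z` and `u` in `C(z u)`;
* `TB.exists_fix` : Frattini's argument in `C(K u)`;
* `TB.exists_bu` : the block of `u` contains an element commuting with `u` and different from `u` (Z*);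
* `TB.false_of` : no element of `Z` is an N-partner of both `z` and `u`.
-/

set_option autoImplicit false
set_option linter.style.haveILetI false
set_option linter.unusedSectionVars false

namespace Cfsg.Agent.Cit.Nil.Comp

open Subgroup Cfsg Cfsg.Agent.Cit Cfsg.Agent.Cit.Nil.ROne Cfsg.Agent.StdEven.Syl

variable {G : Type*} [Group G]

/-- `k` is an axis of `y` in `K u` -/
def Ax (K : G → Subgroup G) (y u k : G) : Prop := Inn K y u k ∨ Trn K y u k

section ax

variable {Z : Set G} {K : G → Subgroup G} (w : W Z K) {y u k l g : G}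

theorem Ax.mem (h : Ax K y u k) : k ∈ K u := h.elim (fun h => h.mem) fun h => h.mem

theorem Ax.sq (h : Ax K y u k) : k * k = u := h.elim (fun h => h.sq) fun h => h.sq

include w

theorem Ax.conj (hu : u ∈ Z) (h : Ax K y u k) (hg : g * u = u * g) : Ax K (g * y * g⁻¹) u (g * k * g⁻¹) := by
  have h1 : g * u * g⁻¹ = u := by rw [hg, mul_inv_cancel_right]
  rcases h with h | h
  · left
    have h2 := w.inn_conj hu g h
    rwa [h1] at h2
  · right
    have h2 := w.trn_conj hu g h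
    rwa [h1] at h2

theorem Ax.uniq (hu : u ∈ Z) (h : Ax K y u k) (h' : Ax K y u l) : l = k ∨ l = k⁻¹ := by
  by_contra hcon
  push Not at hcon
  rcases h with h | h <;> rcases h' with h' | h'
  · have h1 := w.inv_of_ne hu h.mem h.sq h'.mem h'.sq hcon.1 hcon.2
    rw [← h.act l h'.mem, h'.act l h'.mem, mul_inv_cancel_right] at h1
    have h2 : l * l = 1 := by
      nth_rewrite 1 [h1]
      exact inv_mul_cancel l
    rw [h'.sq] at h2
    exact w.ne u hu h2
  · exact w.not_inn_trn hu h h'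
  · exact w.not_inn_trn hu h' h
  · exact (h.ne l h'.mem h'.sq hcon.1 hcon.2).2 h'.inv

theorem exists_ax (hy : y ∈ Z) (hu : u ∈ Z) (h : NP K y u) : ∃ k, Ax K y u k := by
  rcases w.np_cases hy hu h with ⟨p, p', -, h1⟩ | ⟨p, p', -, h1⟩
  · exact ⟨p', Or.inl h1⟩
  · exact ⟨p', Or.inr h1⟩

/-- the third axis -/
theorem third_axis (hu : u ∈ Z) {k l m : G} (hk : k ∈ K u) (hkk : k * k = u) (hl : l ∈ K u) (hll : l * l = u)
    (h1 : l ≠ k) (h2 : l ≠ k⁻¹) (hm : m ∈ K u) (hmm : m * m = u) (h3 : m ≠ k) (h4 : m ≠ k⁻¹) (h5 : m ≠ l)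
    (h6 : m ≠ l⁻¹) : m = k * l ∨ m = (k * l)⁻¹ := by
  have key : ∀ p q r : QEight.Q, p * p = QuaternionGroup.a 2 → q * q = QuaternionGroup.a 2 →
      r * r = QuaternionGroup.a 2 → q ≠ p → q ≠ p⁻¹ → r ≠ p → r ≠ p⁻¹ → r ≠ q → r ≠ q⁻¹ →
      r = p * q ∨ r = (p * q)⁻¹ := by decide
  have hsq : ∀ {y : G} (hy : y ∈ K u), y * y = u → w.e hu ⟨y, hy⟩ * w.e hu ⟨y, hy⟩ = QuaternionGroup.a 2 := by
    intro y hy h4
    rw [← w.e_mul hu hy hy, ← w.e_z hu]
    exact congrArg (w.e hu) (Subtype.ext h4)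
  have ne : ∀ {a c : G} (ha : a ∈ K u) (hc : c ∈ K u), a ≠ c → w.e hu ⟨a, ha⟩ ≠ w.e hu ⟨c, hc⟩ :=
    fun ha hc h7 h8 => h7 (w.e_inj hu ha hc h8)
  have ne' : ∀ {a c : G} (ha : a ∈ K u) (hc : c ∈ K u), a ≠ c⁻¹ → w.e hu ⟨a, ha⟩ ≠ (w.e hu ⟨c, hc⟩)⁻¹ :=
    fun ha hc h7 h8 => h7 (w.e_inj hu ha (inv_mem hc) (by rw [h8, w.e_inv hu hc]))
  rcases key _ _ _ (hsq hk hkk) (hsq hl hll) (hsq hm hmm) (ne hl hk h1) (ne' hl hk h2) (ne hm hk h3) (ne' hm hk h4)
    (ne hm hl h5) (ne' hm hl h6) with h7 | h7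
  · left
    rw [← w.e_mul hu hk hl] at h7
    exact w.e_inj hu _ _ h7
  · right
    rw [← w.e_mul hu hk hl, ← w.e_inv hu (mul_mem hk hl)] at h7
    exact w.e_inj hu _ _ h7

end ax

namespace TB

variable {Z : Set G} {K : G → Subgroup G} {z u : G} [Finite G] (t : TB Z K z u) {v x y c b g k : G}

include t

/-- a Sylow subgroup with the members `K z`, `K u` -/
theorem exists_S : ∃ S : Sylow 2 G, z ∈ CS Z K (S : Subgroup G) ∧ u ∈ CS Z K (S : Subgroup G) ∧
    ∀ v ∈ CS Z K (S : Subgroup G), v = z ∨ v = u := by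
  obtain ⟨S, h1, h2⟩ := t.w.exists_sylow_of_cp t.hz t.hu t.cp
  refine ⟨S, h1, h2, fun v hv => ?_⟩
  by_contra hcon
  push Not at hcon
  exact t.n3 v hv.1 z t.hz u t.hu (t.w.com hv.1 t.hz S.isPGroup' hv.2 h1.2 hcon.1)
    (t.w.com hv.1 t.hu S.isPGroup' hv.2 h2.2 hcon.2) t.cp

/-- the members of `C(z u)` are conjugates of `z` and `u` in `C(z u)` -/
theorem om_conj (hv : v ∈ Z) (hc : Cen K (z * u) v) :
    ∃ g, g * (z * u) = z * u * g ∧ (v = g * z * g⁻¹ ∨ v = g * u * g⁻¹) := by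
  obtain ⟨S, h1, h2, h3⟩ := t.exists_S
  have hcS : ∀ s ∈ (S : Subgroup G), ∀ y ∈ CS Z K (S : Subgroup G), s * y * s⁻¹ ∈ CS Z K (S : Subgroup G) := by
    intro s hs y hy
    refine ⟨t.w.conjZ y hy.1 s, ?_⟩
    rw [t.w.conjK y hy.1]
    intro k hk
    have h2 := mul_mem (mul_mem hs (hy.2 (mem_cj.1 hk))) (inv_mem hs)
    simpa [mul_assoc] using h2
  have hSC : (S : Subgroup G) ≤ centralizer {z * u} := by
    intro s hs
    rw [mem_centralizer_singleton_iff]
    have inj : s * z * s⁻¹ ≠ s * u * s⁻¹ := fun h5 => t.cp.1 (mul_left_cancel (mul_right_cancel h5))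
    have h5 : s * (z * u) * s⁻¹ = z * u := by
      have e : s * (z * u) * s⁻¹ = (s * z * s⁻¹) * (s * u * s⁻¹) := by group
      rw [e]
      rcases h3 _ (hcS s hs z h1) with h6 | h6 <;> rcases h3 _ (hcS s hs u h2) with h7 | h7
      · exact absurd (h6.trans h7.symm) inj
      · rw [h6, h7]
      · rw [h6, h7, ← t.comm]
      · exact absurd (h6.trans h7.symm) inj
    exact mul_inv_eq_iff_eq_mul.1 h5
  have hKv : K v ≤ centralizer {z * u} := fun k hk => mem_centralizer_singleton_iff.2 (hc k hk).symm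
  have hSy : IsSyl (S : Subgroup G) (centralizer {z * u}) := (isSyl_top_of_sylow S).mono hSC le_top
  obtain ⟨n, hn, hnS⟩ := hSy.exists_conj (t.w.two hv) hKv
  have hn1 : n⁻¹ * (z * u) = z * u * n⁻¹ := mem_centralizer_singleton_iff.1 (inv_mem hn)
  have h4 : n * v * n⁻¹ ∈ CS Z K (S : Subgroup G) := by
    refine ⟨t.w.conjZ v hv n, ?_⟩
    rw [t.w.conjK v hv]
    intro k hk
    have h5 := hnS _ (mem_cj.1 hk)
    have e : n * (n⁻¹ * k * n) * n⁻¹ = k := by group
    rwa [e] at h5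
  have e : v = n⁻¹ * (n * v * n⁻¹) * n⁻¹⁻¹ := by group
  refine ⟨n⁻¹, hn1, ?_⟩
  rcases h3 _ h4 with h5 | h5
  · left
    rw [h5] at e
    exact e
  · right
    rw [h5] at e
    exact e

/-- Frattini's argument in `C(K u)` -/
theorem exists_fix (hg : g * u = u * g) : ∃ n, Cen K n u ∧ n * (g * z * g⁻¹) * n⁻¹ = z := by
  set D := centralizer (K u : Set G) with hD
  have hle : ∀ {v : G}, CP K v u → K v ≤ D := fun h1 a ha => mem_centralizer_iff.2 fun b hb => (h1.2 a ha b hb).symm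
  obtain ⟨R, hR, hzR⟩ := exists_isSyl (t.w.two t.hz) (hle t.cp)
  have hgu : g * u * g⁻¹ = u := by rw [hg, mul_inv_cancel_right]
  have h1 : CP K (g * z * g⁻¹) u := by
    have h2 := t.w.cp_conj t.hz t.hu t.cp g
    rwa [hgu] at h2
  have hvZ : g * z * g⁻¹ ∈ Z := t.w.conjZ z t.hz g
  obtain ⟨n, hn, hnR⟩ := hR.exists_conj (t.w.two hvZ) (hle h1)
  have hn' : Cen K n u := fun k hk => (mem_centralizer_iff.1 hn k hk).symm
  refine ⟨n, hn', ?_⟩
  set v := n * (g * z * g⁻¹) * n⁻¹ with hv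
  have hvZ' : v ∈ Z := t.w.conjZ _ hvZ n
  have hKv : K v ≤ R := by
    rw [hv, t.w.conjK _ hvZ]
    intro k hk
    have h5 := hnR _ (mem_cj.1 hk)
    have e : n * (n⁻¹ * k * n) * n⁻¹ = k := by group
    rwa [e] at h5
  by_contra hne
  have hvu : CP K v u := by
    have h2 := t.w.cp_conj hvZ t.hu h1 n
    have h3 : n * u * n⁻¹ = u := by rw [hn' u (t.w.mem u t.hu), mul_inv_cancel_right]
    rwa [h3] at h2
  exact t.n3 v hvZ' z t.hz u t.hu (t.w.com hvZ' t.hz hR.two hKv hzR hne) hvu t.cp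

/-- (C3) in `C(z) ∩ C(u)` -/
theorem c3' (c3 : C3 Z K) (hk : k ∈ K u) (hkk : k * k = u) :
    ∃ d, d * z = z * d ∧ d * u = u * d ∧ d * k * d⁻¹ ≠ k ∧ d * k * d⁻¹ ≠ k⁻¹ := by
  obtain ⟨g, hg, h1, h2⟩ := c3 u t.hu k hk hkk
  obtain ⟨n, hn, h3⟩ := t.exists_fix hg
  have hnu := hn u (t.w.mem u t.hu)
  have h4 : n * g * k * (n * g)⁻¹ = g * k * g⁻¹ := by
    have h5 := hn _ (t.w.norm_mem t.hu hg hk)
    calc n * g * k * (n * g)⁻¹ = n * (g * k * g⁻¹) * n⁻¹ := by group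
      _ = g * k * g⁻¹ := by rw [h5, mul_inv_cancel_right]
  refine ⟨n * g, ?_, ?_, by rwa [h4], by rwa [h4]⟩
  · rw [← mul_inv_eq_iff_eq_mul]
    calc n * g * z * (n * g)⁻¹ = n * (g * z * g⁻¹) * n⁻¹ := by group
      _ = z := h3
  · rw [mul_assoc, hg, ← mul_assoc, hnu, mul_assoc]

/-- conjugation of `BU` by `C(z) ∩ C(u)` -/
theorem bu_conj' (hc : BU Z K z u c) {d : G} (h1 : d * z = z * d) (h2 : d * u = u * d) :
    BU Z K z u (d * c * d⁻¹) := by
  have e1 : d * z * d⁻¹ = z := by rw [h1, mul_inv_cancel_right]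
  have e2 : d * u * d⁻¹ = u := by rw [h2, mul_inv_cancel_right]
  have h3 := t.w.cp_conj hc.1 t.hz hc.2.1 d
  have h4 := t.w.np_conj hc.1 t.hu d hc.2.2
  rw [e1] at h3
  rw [e2] at h4
  exact ⟨t.w.conjZ c hc.1 d, h3, h4⟩

/-- elements of `BU` with the axis `±k` and with another axis -/
theorem exists_axes (c3 : C3 Z K) (hc : BU Z K z u c) (hk : k ∈ K u) (hkk : k * k = u) :
    ∃ c₁ c₂ k₁ k₂, BU Z K z u c₁ ∧ BU Z K z u c₂ ∧ Ax K c₁ u k₁ ∧ Ax K c₂ u k₂ ∧ (k₁ = k ∨ k₁ = k⁻¹) ∧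
      k₂ ≠ k ∧ k₂ ≠ k⁻¹ := by
  obtain ⟨l, hl⟩ := exists_ax t.w hc.1 t.hu hc.2.2
  have inv_ne : ∀ {a b : G}, a ≠ b⁻¹ → b ≠ a⁻¹ := fun h1 h2 => h1 (by rw [h2, inv_inv])
  by_cases h1 : l = k ∨ l = k⁻¹
  · obtain ⟨d, d1, d2, d3, d4⟩ := t.c3' c3 hl.mem hl.sq
    refine ⟨c, d * c * d⁻¹, l, d * l * d⁻¹, hc, t.bu_conj' hc d1 d2, hl, hl.conj t.w t.hu d2, h1, ?_, ?_⟩
    · rcases h1 with h1 | h1
      · rwa [h1] at d3 ⊢
      · rw [h1, inv_inv] at d4
        rwa [h1]
    · rcases h1 with h1 | h1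
      · rwa [h1] at d4 ⊢
      · rw [h1] at d3
        rwa [h1]
  · push Not at h1
    -- it is enough to find `c₁`
    suffices h2 : ∃ d, d * z = z * d ∧ d * u = u * d ∧ (d * l * d⁻¹ = k ∨ d * l * d⁻¹ = k⁻¹) by
      obtain ⟨d, d1, d2, d3⟩ := h2
      exact ⟨d * c * d⁻¹, c, d * l * d⁻¹, l, t.bu_conj' hc d1 d2, hc, hl.conj t.w t.hu d2, hl, d3, h1.1, h1.2⟩
    obtain ⟨d, d1, d2, d3, d4⟩ := t.c3' c3 hl.mem hl.sq
    obtain ⟨e, e1, e2, e3, e4⟩ := t.c3' c3 hk hkk
    by_cases h2 : d * l * d⁻¹ = k ∨ d * l * d⁻¹ = k⁻¹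
    · exact ⟨d, d1, d2, h2⟩
    push Not at h2
    have inv1 : ∀ {a b : G}, a * b = b * a → a⁻¹ * b = b * a⁻¹ := fun {a b} h3 => by
      rw [inv_mul_eq_iff_eq_mul, ← mul_assoc, h3, mul_inv_cancel_right]
    have hem : e * k * e⁻¹ ∈ K u := t.w.norm_mem t.hu e2 hk
    have hesq : e * k * e⁻¹ * (e * k * e⁻¹) = u := by
      calc e * k * e⁻¹ * (e * k * e⁻¹) = e * (k * k) * e⁻¹ := by group
        _ = u := by rw [hkk, e2, mul_inv_cancel_right]
    have hdm : d * l * d⁻¹ ∈ K u := t.w.norm_mem t.hu d2 hl.mem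
    have hdsq : d * l * d⁻¹ * (d * l * d⁻¹) = u := by
      calc d * l * d⁻¹ * (d * l * d⁻¹) = d * (l * l) * d⁻¹ := by group
        _ = u := by rw [hl.sq, d2, mul_inv_cancel_right]
    by_cases h3 : e * k * e⁻¹ = l ∨ e * k * e⁻¹ = l⁻¹
    · refine ⟨e⁻¹, inv1 e1, inv1 e2, ?_⟩
      rcases h3 with h3 | h3
      · left; rw [← h3]; group
      · right
        have h4 : l = (e * k * e⁻¹)⁻¹ := by rw [h3, inv_inv]
        rw [h4]; group
    push Not at h3
    -- both are on the third axis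
    have q1 := third_axis t.w t.hu hk hkk hl.mem hl.sq h1.1 h1.2 hem hesq e3 e4 h3.1 h3.2
    have q2 := third_axis t.w t.hu hk hkk hl.mem hl.sq h1.1 h1.2 hdm hdsq h2.1 h2.2 d3 d4
    refine ⟨e⁻¹ * d, ?_, ?_, ?_⟩
    · rw [mul_assoc, d1, ← mul_assoc, inv1 e1, mul_assoc]
    · rw [mul_assoc, d2, ← mul_assoc, inv1 e2, mul_assoc]
    · have h4 : d * l * d⁻¹ = e * k * e⁻¹ ∨ d * l * d⁻¹ = (e * k * e⁻¹)⁻¹ := by
        rcases q1 with q1 | q1 <;> rcases q2 with q2 | q2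
        · left; rw [q1, q2]
        · right; rw [q1, q2]
        · right; rw [q1, q2, inv_inv]
        · left; rw [q1, q2]
      have h5 : e⁻¹ * d * l * (e⁻¹ * d)⁻¹ = e⁻¹ * (d * l * d⁻¹) * e := by group
      rw [h5]
      rcases h4 with h4 | h4
      · left; rw [h4]; group
      · right; rw [h4]; group

/-- the block of `u` contains an element commuting with `u` and different from `u` -/
theorem exists_bu (cf : ∀ N : Subgroup G, N ≤ centralizer {z} → centralizer {z} ≤ normalizer (N : Set G) →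
      Odd (Nat.card N) → N = ⊥)
    (hn : ∃ g, g * z = z * g ∧ g * u ≠ u * g) : ∃ c, BU Z K z u c := by
  by_contra hcon
  push Not at hcon
  -- conjugates of `u` in `C(z)`
  have hz1 : ∀ {g : G}, g * z = z * g → CP K (g * u * g⁻¹) z := fun {g} hg => by
    have h1 := t.w.cp_conj t.hu t.hz t.cp.symm g
    rwa [hg, mul_inv_cancel_right] at h1
  have key : ∀ {g : G}, g * z = z * g → u * (g * u * g⁻¹) = g * u * g⁻¹ * u → g * u * g⁻¹ = u := by
    intro g hg h1
    by_contra hne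
    exact hcon _ (t.bu_of (t.w.conjZ u t.hu g) (hz1 hg) h1.symm hne)
  obtain ⟨g, hg, hgu⟩ := hn
  apply hgu
  have hzpow : ∀ x, x ∈ zpowers z ↔ x = 1 ∨ x = z := by
    intro x
    constructor
    · intro hx
      obtain ⟨n, rfl⟩ := mem_zpowers_iff.1 hx
      rcases Int.even_or_odd' n with ⟨k, rfl | rfl⟩
      · left
        rw [zpow_mul, zpow_two, t.zz, one_zpow]
      · right
        rw [zpow_add, zpow_mul, zpow_two, t.zz, one_zpow, one_mul, zpow_one]
    · rintro (rfl | rfl)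
      · exact one_mem _
      · exact mem_zpowers _
  have hm : ∀ {x : G}, x ∈ centralizer ({z} : Set G) ↔ x * z = z * x := mem_centralizer_singleton_iff
  have h1 : u * (g * u * g⁻¹) = g * u * g⁻¹ * u := by
    refine zstar_four (X := centralizer {z}) (V := zpowers z) ?_ ?_ (hm.2 t.comm.symm) t.uu ?_ ?_ ?_ (hm.2 hg)
    · intro v hv x hx
      rcases (hzpow v).1 hv with rfl | rfl
      · rw [one_mul, mul_one]
      · exact (hm.1 hx).symm
    · exact (t.w.two t.hz).to_le (by rw [zpowers_le]; exact t.w.mem z t.hz)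
    · intro h2
      rcases (hzpow u).1 h2 with h3 | h3
      · exact t.w.ne u t.hu h3
      · exact t.cp.1 h3.symm
    · intro x hx h2
      have hx' := hm.1 hx
      set v := x * u * x⁻¹ with hv
      have hvZ : v ∈ Z := t.w.conjZ u t.hu x
      have hvz : v * z = z * v := t.w.comm_of_cp hvZ t.hz (hz1 hx')
      rcases (hzpow _).1 h2 with h3 | h3
      · rw [mul_inv_eq_one] at h3
        have h4 : v = u := key hx' h3
        rw [h4, mul_inv_cancel]
        exact one_mem _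
      · -- `u v = z v u`
        exfalso
        rw [mul_inv_eq_iff_eq_mul] at h3
        have h4 : v * u * v⁻¹ = z * u := by
          have h5 : v * u = z * (u * v) := by rw [h3, ← mul_assoc, t.zz, one_mul]
          rw [h5]; group
        have h5 : z * u ∈ Z := by
          rw [← h4]
          exact t.w.conjZ u t.hu v
        rcases (t.w.cen_iff t.hz h5).1 t.cen_z with h6 | h6
        · exact t.w.ne u t.hu (mul_eq_left.1 h6.symm)
        · rcases (t.w.cen_iff t.hu h5).1 t.cen_u with h7 | h7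
          · exact t.w.ne z t.hz (mul_eq_right.1 h7.symm)
          · exact t.n3 _ h5 z t.hz u t.hu h6.symm h7.symm t.cp
    · intro N hN hNn hNo n hn
      have h2 : N = ⊥ := cf N hN (fun x hx => by
        rw [mem_normalizer_iff]
        intro y
        refine ⟨fun hy => hNn x hx y hy, fun hy => ?_⟩
        have h3 := hNn x⁻¹ (inv_mem hx) _ hy
        have e : x⁻¹ * (x * y * x⁻¹) * x⁻¹⁻¹ = y := by group
        rwa [e] at h3) hNo
      rw [h2, mem_bot] at hn
      rw [hn, mul_one, one_mul]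
  exact mul_inv_eq_iff_eq_mul.1 (key hg h1)

/-- **no element of `Z` is an N-partner of both `z` and `u`** -/
theorem false_of (c3 : C3 Z K) (hc : BU Z K z u c) (hx : x ∈ Z) (n1 : NP K x z) (n2 : NP K x u) : False := by
  obtain ⟨g, hg, hxg⟩ := t.om_conj hx (t.om_of_np hx n1 n2)
  have hgu' := t.conj_u hg
  -- `g` does not stabilise `{z, u}`
  have hgz : g * z * g⁻¹ ≠ z := by
    intro h1
    rw [h1, t.zuz] at hgu'
    rcases hxg with h2 | h2
    · exact n1.1 (h2.trans h1)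
    · exact n2.1 (h2.trans hgu')
  have hgu : g * z * g⁻¹ ≠ u := by
    intro h1
    rw [h1, t.zuu] at hgu'
    rcases hxg with h2 | h2
    · exact n2.1 (h2.trans h1)
    · exact n1.1 (h2.trans hgu')
  obtain ⟨k, hk⟩ := exists_ax t.w hx t.hu n2
  obtain ⟨c₁, c₂, k₁, k₂, b1, b2, a1, a2, hk1, hk2, hk2'⟩ := t.exists_axes c3 hc hk.mem hk.sq
  obtain ⟨c', hc'⟩ : ∃ c', c' = g * c * g⁻¹ := ⟨_, rfl⟩
  have hcZ : c' ∈ Z := by rw [hc']; exact t.w.conjZ c hc.1 g
  have hch : c' * (z * u) = z * u * c' := by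
    have h1 : g⁻¹ * (z * u) = z * u * g⁻¹ := by
      rw [inv_mul_eq_iff_eq_mul, ← mul_assoc, hg, mul_inv_cancel_right]
    calc c' * (z * u) = g * c * (g⁻¹ * (z * u)) := by rw [hc']; group
      _ = g * (c * (z * u)) * g⁻¹ := by rw [h1]; group
      _ = (g * (z * u)) * c * g⁻¹ := by rw [t.bu_comm_h hc]; group
      _ = z * u * c' := by rw [hg, hc']; group
  -- the involutions interchanging `c₁` (`c₂`) and `c'`
  have swap : ∀ {c₁ : G}, BU Z K z u c₁ → ∃ y, y * y = 1 ∧ y * c₁ * y⁻¹ = c' ∧ y * c' * y⁻¹ = c₁ ∧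
      y * (z * u) = z * u * y ∧ y * z * y⁻¹ = g * z * g⁻¹ ∧ y * (g * z * g⁻¹) * y⁻¹ = z := by
    intro c₁ b1
    have h1 := t.odd_of b1 hc hg hgz hgu
    rw [← hc'] at h1
    obtain ⟨y, hyy, h2, h3, h4⟩ := exists_swap (t.w.sq c₁ b1.1) (t.w.sq c' hcZ) h1
    have hyh : y * (z * u) = z * u * y := (h4 (z * u) (t.bu_comm_h b1).symm hch.symm).symm
    have h5 : g⁻¹ * y * c₁ * (g⁻¹ * y)⁻¹ = c := by
      calc g⁻¹ * y * c₁ * (g⁻¹ * y)⁻¹ = g⁻¹ * (y * c₁ * y⁻¹) * g := by group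
        _ = g⁻¹ * (g * c * g⁻¹) * g := by rw [h2, hc']
        _ = c := by group
    have h6 : g⁻¹ * y * (z * u) = z * u * (g⁻¹ * y) := by
      have h7 : g⁻¹ * (z * u) = z * u * g⁻¹ := by
        rw [inv_mul_eq_iff_eq_mul, ← mul_assoc, hg, mul_inv_cancel_right]
      rw [mul_assoc, hyh, ← mul_assoc, h7, mul_assoc]
    have h7 := t.bu_conj b1 h6 (by rw [h5]; exact hc)
    have h8 : y * z * y⁻¹ = g * z * g⁻¹ := by
      calc y * z * y⁻¹ = g * (g⁻¹ * y * z * (g⁻¹ * y)⁻¹) * g⁻¹ := by group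
        _ = g * z * g⁻¹ := by rw [h7]
    refine ⟨y, hyy, h2, h3, hyh, h8, ?_⟩
    rw [← h8]
    calc y * (y * z * y⁻¹) * y⁻¹ = (y * y) * z * (y * y)⁻¹ := by group
      _ = z := by rw [hyy]; group
  obtain ⟨y₁, -, p1, -, p3, p4, p5⟩ := swap b1
  obtain ⟨y₂, -, -, q2, q3, q4, q5⟩ := swap b2
  obtain ⟨d, hd⟩ : ∃ d, d = y₂ * y₁ := ⟨_, rfl⟩
  have hdh : d * (z * u) = z * u * d := by rw [hd, mul_assoc, p3, ← mul_assoc, q3, mul_assoc]
  have hdz : d * z * d⁻¹ = z := by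
    calc d * z * d⁻¹ = y₂ * (y₁ * z * y₁⁻¹) * y₂⁻¹ := by rw [hd]; group
      _ = z := by rw [p4, q5]
  have hdz' : d * z = z * d := mul_inv_eq_iff_eq_mul.1 hdz
  have hdu : d * u = u * d := t.comm_u hdh hdz'
  have hdv : d * (g * z * g⁻¹) * d⁻¹ = g * z * g⁻¹ := by
    calc d * (g * z * g⁻¹) * d⁻¹ = y₂ * (y₁ * (g * z * g⁻¹) * y₁⁻¹) * y₂⁻¹ := by rw [hd]; group
      _ = g * z * g⁻¹ := by rw [p5, q4]
  have hdv' : d * (g * z * g⁻¹) = g * z * g⁻¹ * d := mul_inv_eq_iff_eq_mul.1 hdv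
  have hdx : d * x = x * d := by
    rcases hxg with h2 | h2
    · rw [h2]; exact hdv'
    · rw [h2, hgu', ← mul_assoc, hdh, mul_assoc, hdv', ← mul_assoc]
  have hdc : d * c₁ * d⁻¹ = c₂ := by
    calc d * c₁ * d⁻¹ = y₂ * (y₁ * c₁ * y₁⁻¹) * y₂⁻¹ := by rw [hd]; group
      _ = c₂ := by rw [p1, q2]
  have r1 := hk.conj t.w t.hu hdu
  rw [hdx, mul_inv_cancel_right] at r1
  have r2 := a1.conj t.w t.hu hdu
  rw [hdc] at r2
  have r3 := hk.uniq t.w t.hu r1
  have r4 := r2.uniq t.w t.hu a2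
  have r5 : d * k₁ * d⁻¹ = k ∨ d * k₁ * d⁻¹ = k⁻¹ := by
    rcases hk1 with h1 | h1
    · rw [h1]; exact r3
    · have h2 : d * k₁ * d⁻¹ = (d * k * d⁻¹)⁻¹ := by rw [h1]; group
      rw [h2]
      rcases r3 with h3 | h3
      · rw [h3]; exact Or.inr rfl
      · rw [h3, inv_inv]; exact Or.inl rfl
  rcases r4 with h1 | h1 <;> rcases r5 with h2 | h2
  · exact hk2 (h1.trans h2)
  · exact hk2' (h1.trans h2)
  · exact hk2' (by rw [h1, h2])
  · exact hk2 (by rw [h1, h2, inv_inv])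

end TB

end Cfsg.Agent.Cit.Nil.Comp
end
end

-- part: Cit/Nil/AN/Main
section
set_option linter.all false

/-!
# `AN(s)` for all `s ∈ T_S`, `s ≠ 1`, `m ≥ 3`

`ant` : `W`, one class, nil C-pairs, `m ≥ 3`, `TPr` (the classes of `C(s)` are nil or `ONE`), no strongly closed
commutative subgroup `A ≤ ⟨Z⟩`: `ANT Z K`.
-/

set_option autoImplicit false
set_option linter.unusedSectionVars false

namespace Cfsg.Agent.Cit.Nil.AN

open Subgroup Cfsg Cfsg.Agent.Cit Cfsg.Agent.StdEven.Syl Cfsg.Agent.OddOrderLocal.NilParts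

variable {G : Type*} [Group G] {Z : Set G} {K : G → Subgroup G}

theorem three_of_ncard [Finite G] {A : Set G} (h : 3 ≤ A.ncard) :
    ∃ z₁ ∈ A, ∃ z₂ ∈ A, ∃ z₃ ∈ A, z₁ ≠ z₂ ∧ z₁ ≠ z₃ ∧ z₂ ≠ z₃ := by
  obtain ⟨a, ha, b, hb, c, hc, hab, hac, hbc⟩ := (Set.two_lt_ncard (Set.toFinite A)).1 h
  exact ⟨a, ha, b, hb, c, hc, hab, hac, hbc⟩

/-- **`AN(s)`, `s ∈ T_S`, `s ≠ 1`, `m ≥ 3`** -/
theorem ant [Finite G] (h : ROne.W Z K) (hcls : ROne.OneCls Z) (hnil : ROne.NilP Z K)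
    (three : ∀ S : Sylow 2 G, 3 ≤ (ROne.CS Z K (S : Subgroup G)).ncard)
    (tp : ∀ S : Sylow 2 G, TPr Z K (S : Subgroup G)) (ncl : ∀ S : Sylow 2 G, NoCl Z (S : Subgroup G)) :
    ROne.ANT Z K := by
  intro S s hs hs1 z hz hsz
  have h1 : z ∈ oP 2 (centralizer {s}) :=
    an (h.toAW hcls hnil) h (isSyl_top_of_sylow S) (three_of_ncard (three S)) (tp S) (ncl S) hs hs1 hz hsz
  exact ⟨oP 2 (centralizer {s}), oP_le 2 _, le_normalizer_oP 2 _, isPGroup_oP 2 _, h1⟩

end Cfsg.Agent.Cit.Nil.AN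
end

-- part: Cit/Nil/Comp/Product
section
prune_inst 0x40005022000000000000000000001000000200400000200000000048000080440000004000100010041020000000021000000220000000000800000000000000000200000000010000000000000000000000000000000000000000000000000000000
set_option linter.all false
open scoped Cfsg.Agent.FastGrp

/-!
# S1309 (6b), `r = 1`, COMP: the product situation (helper454, bb R18 #15492 (F1)-(F3))

`PW Z K` : every `z ∈ Z` lies in a frame (`Frm`), `T'`, and no normal subgroup of odd order in `C(z)`.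
`SF Z K x y` : `x` and `y` lie in the same frame.

* `PW.cp` : **(F1)** C-pairs have the same frame;
* `PW.block` : the block lemma;
* `PW.csw` : **(F2)** C-swaps have the same frame;
* `PW.PM` : the stabiliser of the frame;
* `PW.sf_of_mem`, `PW.mem_of_mem` : **(F3)** `Z ∩ M = Σ`, and `M` controls the fusion of `Σ`.
-/

set_option autoImplicit false
set_option linter.style.haveILetI false
set_option linter.unusedSectionVars false

namespace Cfsg.Agent.Cit.Nil.Comp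

open Subgroup Cfsg Cfsg.Agent.Cit Cfsg.Agent.Cit.Nil.ROne Cfsg.Agent.Cit.Nil.AN
open Cfsg.Agent.OddOrderLocal.NilParts Cfsg.Agent.StdEven.Syl

variable {G : Type*} [Group G] {Z : Set G} {K : G → Subgroup G} {z u v x y g s a b c : G} {A B : Set G}
  {F F' : Set (Set G)}

/-- `x` and `y` lie in the same frame -/
def SF (Z : Set G) (K : G → Subgroup G) (x y : G) : Prop := ∃ F, Frm Z K F ∧ (∃ A ∈ F, x ∈ A) ∧ ∃ B ∈ F, y ∈ B

/-- the product situation -/
structure PW (Z : Set G) (K : G → Subgroup G) : Prop where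
  w : W Z K
  tp : TP Z K
  fr : ∀ z ∈ Z, ∃ F, Frm Z K F ∧ ∃ A ∈ F, z ∈ A
  cf : ∀ z ∈ Z, ∀ N : Subgroup G, N ≤ centralizer {z} → centralizer {z} ≤ normalizer (N : Set G) →
    Odd (Nat.card N) → N = ⊥

namespace SF

theorem symm (h : SF Z K x y) : SF Z K y x := by
  obtain ⟨F, f, h1, h2⟩ := h
  exact ⟨F, f, h2, h1⟩

theorem mem_left (h : SF Z K x y) : x ∈ Z := by
  obtain ⟨F, f, ⟨A, hA, hx⟩, -⟩ := h
  exact f.sub A hA hx

theorem mem_right (h : SF Z K x y) : y ∈ Z := h.symm.mem_left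

end SF

namespace PW

theorem sf_refl (p : PW Z K) (hz : z ∈ Z) : SF Z K z z := by
  obtain ⟨F, f, A, hA, hzA⟩ := p.fr z hz
  exact ⟨F, f, ⟨A, hA, hzA⟩, A, hA, hzA⟩

variable [Finite G] (p : PW Z K)

include p

theorem sf_trans (h1 : SF Z K x y) (h2 : SF Z K y z) : SF Z K x z := by
  obtain ⟨F, f, hA, B, hB, hy⟩ := h1
  obtain ⟨F', f', ⟨B', hB', hy'⟩, hC⟩ := h2
  obtain ⟨rfl, -⟩ := f.uniq p.w f' hB hB' hy hy'
  exact ⟨F, f, hA, hC⟩

theorem sf_conj (g : G) (h1 : SF Z K x y) : SF Z K (g * x * g⁻¹) (g * y * g⁻¹) := by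
  obtain ⟨F, f, ⟨A, hA, hx⟩, B, hB, hy⟩ := h1
  exact ⟨_, f.conj p.w g, ⟨_, ⟨A, hA, rfl⟩, ⟨x, hx, rfl⟩⟩, _, ⟨B, hB, rfl⟩, ⟨y, hy, rfl⟩⟩

/-- elements of different blocks form a C-pair -/
theorem cp_of (f : Frm Z K F) (hA : A ∈ F) (hB : B ∈ F) (hAB : A ≠ B) (ha : a ∈ A) (hb : b ∈ B) : CP K a b :=
  (cp_iff p.w (f.sub A hA ha)).2 (f.cm A hA B hB hAB a ha b hb)

/-- **(F1)** -/
theorem cp (hx : x ∈ Z) (hu : u ∈ Z) (hc : CP K x u) : SF Z K x u := by
  obtain ⟨F, f, A, hA, hxA⟩ := p.fr x hx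
  obtain ⟨F', f', A', hA', huA'⟩ := p.fr u hu
  obtain ⟨B, hB, hBA⟩ := f.other hA
  by_cases huB : u ∈ B
  · exact ⟨F, f, ⟨A, hA, hxA⟩, B, hB, huB⟩
  · have h1 : B ∈ NN Z K x := by
      rw [f.nn A hA x hxA]
      exact ⟨hB, hBA⟩
    have h2 := NN_exch p.w hx hu hc.2 (TP.of_mem p.w p.tp hu) h1 huB
    rw [f'.nn A' hA' u huA'] at h2
    obtain ⟨b, hb⟩ := f.ne B hB
    obtain ⟨rfl, -⟩ := f.uniq p.w f' hB h2.1 hb hb
    exact ⟨F, f, ⟨A, hA, hxA⟩, A', hA', huA'⟩

/-- **the block lemma** -/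
theorem block (f : Frm Z K F) (hB : B ∈ F) (hT : TPs Z K s) (hs : ∀ b ∈ B, Ce s (K b)) (hz : z ∈ Om Z K s)
    (hzB : ∀ b ∈ B, Cm (K z) (K b)) (hx : x ∈ Om Z K s) (hn : ¬ Cm (K x) (K z)) : ∀ b ∈ B, Cm (K x) (K b) := by
  obtain ⟨C, hC, hCB⟩ := f.other hB
  obtain ⟨c, hc⟩ := f.ne C hC
  intro b hb
  have hBc : B ∈ NN Z K c := by
    rw [f.nn C hC c hc]
    exact ⟨hB, fun e => hCB (Set.mem_singleton_iff.1 e).symm⟩
  obtain ⟨h1, h2, h3⟩ := NN_cl p.w hBc hb
  have hsub : Cl Z K c b ⊆ Om Z K s := fun y hy => ⟨(cl_sub h1 hy).1, hs y (by rw [h3]; exact hy)⟩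
  have hin : B ⊆ Cl Z K s b := by
    rw [h3]
    exact cl_mono hsub
  have hbs : b ∈ Om Z K s := ⟨f.sub B hB hb, hs b hb⟩
  have hnn : b ∉ oP 2 (centralizer {s}) := fun h4 => h2 (nil_down p.w h1 (isPGroup_oP 2 _) fun y hy =>
    (nil_cl p.w hbs (hin (by rw [h3]; exact hy))).2 h4)
  have hone := (hT b hbs).resolve_left hnn
  have hzn : z ∉ Cl Z K s b := by
    intro h4
    obtain ⟨y, hy, hyb, hny⟩ := f.exists_not_cm p.w hB hb
    apply hny
    have h5 := hone z h4 y (hin hy) (hzB y hy) b (cl_refl s b)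
    have h6 : Ce z (K b) := ce_of_cm p.w hz.1 (hzB b hb).symm
    have h7 : z * (z * y) = y := by rw [← mul_assoc, p.w.sq z hz.1, one_mul]
    have h8 : Ce y (K b) := by
      rw [← h7]
      exact h6.mul h5
    exact (p.w.csymm (f.sub B hB hb) (f.sub B hB hy) hyb.symm h8).2
  have hxn : x ∉ Cl Z K s b := fun h4 => hzn (cl_step h4 hz hn)
  exact (cl_cm (cl_refl s b) hx hxn).symm

/-- the block lemma, conclusion -/
theorem block' (f : Frm Z K F) (hB : B ∈ F) (hT : TPs Z K s) (hs : ∀ b ∈ B, Ce s (K b)) (hz : z ∈ Om Z K s)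
    (hzB : ∀ b ∈ B, Cm (K z) (K b)) (hx : x ∈ Om Z K s) (hn : ¬ Cm (K x) (K z)) (hA : A ∈ F) (ha : a ∈ A) :
    SF Z K a x := by
  obtain ⟨b, hb⟩ := f.ne B hB
  have h1 := p.block f hB hT hs hz hzB hx hn b hb
  have h2 := p.cp hx.1 (f.sub B hB hb) ((cp_iff p.w hx.1).2 h1)
  exact p.sf_trans ⟨F, f, ⟨A, hA, ha⟩, B, hB, hb⟩ h2.symm

/-- a C-swap between different frames: there are only two blocks -/
theorem csw_cases (hz : z ∈ Z) (hx : x ∈ Z) (hs : CSw K z x) (hn : ¬ SF Z K z x) :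
    ∃ F, Frm Z K F ∧ ∃ A ∈ F, ∃ B ∈ F, A ≠ B ∧ z ∈ A ∧ (∀ C ∈ F, C = A ∨ C = B) ∧ (∀ y ∈ A, x * y * x⁻¹ ∈ B) ∧
      ∀ y ∈ B, x * y * x⁻¹ ∈ A := by
  have hu := p.w.conjZ z hz x
  obtain ⟨F, f, ⟨A, hA, hzA⟩, B, hB, huB⟩ := p.cp hz hu hs
  have hF : ∀ C ∈ F, C = A ∨ C = B := by
    by_contra hcon
    push Not at hcon
    obtain ⟨C, hC, hCA, hCB⟩ := hcon
    apply hn
    have h1 : ∀ b ∈ C, Cm (K z) (K b) := fun b hb => (p.cp_of f hA hC (Ne.symm hCA) hzA hb).2
    have h2 : ∀ b ∈ C, Cm (K (x * z * x⁻¹)) (K b) := fun b hb => (p.cp_of f hB hC (Ne.symm hCB) huB hb).2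
    refine p.block' f hC (TP.of_mul p.w p.tp hz hu hs) (fun b hb => ?_) (z := z) ⟨hz, p.w.wt_cen_u hz hx hs⟩ h1
      (x := x) ⟨hx, p.w.wt_cen_v hz hx hs⟩ (fun h3 => ?_) hA hzA
    · exact (ce_of_cm p.w hz (h1 b hb).symm).mul (ce_of_cm p.w hu (h2 b hb).symm)
    · exact p.w.csw_not_comm hz hx hs (h3 x (p.w.mem x hx) z (p.w.mem z hz)).symm
  have hAB : A ≠ B := by
    obtain ⟨C, hC, hCA⟩ := f.other hA
    rcases hF C hC with h1 | h1
    · exact absurd h1 hCA
    · rw [← h1]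
      exact hCA.symm
  obtain ⟨h1, h2⟩ := f.uniq p.w (f.conj p.w x) hB ⟨A, hA, rfl⟩ huB ⟨z, hzA, rfl⟩
  refine ⟨F, f, A, hA, B, hB, hAB, hzA, hF, fun y hy => ?_, fun y hy => ?_⟩
  · rw [h2]
    exact ⟨y, hy, rfl⟩
  · have h3 : (fun y => x * y * x⁻¹) '' B ∈ (fun A : Set G => (fun y => x * y * x⁻¹) '' A) '' F := ⟨B, hB, rfl⟩
    rw [← h1] at h3
    have inj : Function.Injective (fun y : G => x * y * x⁻¹) := fun y y' hy => by
      have := mul_right_cancel hy
      exact mul_left_cancel this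
    rcases hF _ h3 with h4 | h4
    · rw [← h4]
      exact ⟨y, hy, rfl⟩
    · exact absurd (inj.image_injective (h4.trans h2)).symm hAB

theorem csw_move (f : Frm Z K F) (hA : A ∈ F) (_hB : B ∈ F) (_hAB : A ≠ B) (hF : ∀ C ∈ F, C = A ∨ C = B) (hz : z ∈ A)
    (hx : x ∈ Z) (hs : CSw K z x) (hn : ¬ SF Z K z x) : (∀ y ∈ A, x * y * x⁻¹ ∈ B) ∧ ∀ y ∈ B, x * y * x⁻¹ ∈ A := by
  obtain ⟨F', f', A', hA', B', hB', hAB', hz', hF', h1, h2⟩ := p.csw_cases (f.sub A hA hz) hx hs hn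
  obtain ⟨rfl, rfl⟩ := f.uniq p.w f' hA hA' hz hz'
  rcases hF B' hB' with h3 | h3
  · exact absurd h3.symm hAB'
  · rw [h3] at h1 h2
    exact ⟨h1, h2⟩

omit p [Finite G] in
theorem diag_eq {y y' b : G} (hy : y * y = 1) (hy' : y' * y' = 1) (hb : b * b = 1)
    (h1 : y' * (b * y * b⁻¹) = (b * y * b⁻¹) * y') (h2 : b * (y' * b * y'⁻¹) = (y' * b * y'⁻¹) * b) :
    (y * y') * (b * (y * y') * b⁻¹) = (y * b * y⁻¹) * (y' * b * y'⁻¹) := by
  have e1 : y⁻¹ = y := inv_eq_of_mul_eq_one_right hy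
  have e2 : y'⁻¹ = y' := inv_eq_of_mul_eq_one_right hy'
  have e3 : b⁻¹ = b := inv_eq_of_mul_eq_one_right hb
  calc (y * y') * (b * (y * y') * b⁻¹) = y * (y' * (b * y * b⁻¹)) * (b * y' * b⁻¹) := by group
    _ = y * ((b * y * b⁻¹) * y') * (b * y' * b⁻¹) := by rw [h1]
    _ = (y * b * y) * (b⁻¹ * y' * b * y' * b⁻¹) := by group
    _ = (y * b * y⁻¹) * (b * (y' * b * y'⁻¹) * b⁻¹) := by rw [e1, e2, e3]; group
    _ = (y * b * y⁻¹) * (y' * b * y'⁻¹) := by rw [h2, mul_inv_cancel_right]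

end PW

/-- a group whose commutators are central is nilpotent -/
theorem isNilpotent_of_comm {G : Type*} [Group G] {P : Subgroup G}
    (h : ∀ x ∈ P, ∀ y ∈ P, ∀ z ∈ P, (x * y * x⁻¹ * y⁻¹) * z = z * (x * y * x⁻¹ * y⁻¹)) : Group.IsNilpotent P := by
  rw [isNilpotent_iff_lowerCentralSeries]
  refine ⟨2, ?_⟩
  rw [Subgroup.lowerCentralSeries_succ, commutator_eq_bot_iff_le_centralizer, Subgroup.lowerCentralSeries_succ,
    Subgroup.lowerCentralSeries_zero, commutator_le]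
  intro x hx y hy
  rw [mem_centralizer_iff]
  intro z hz
  exact (h x hx y hy z hz).symm

/-- if the generators commute modulo `C(A)`, `P ≤ ⟨A⟩`, all elements do -/
theorem comm_closure {G : Type*} [Group G] {A E : Set G} (hE : E ⊆ (closure A : Subgroup G))
    (h : ∀ x ∈ E, ∀ y ∈ E, ∀ z ∈ A, (x * y * x⁻¹ * y⁻¹) * z = z * (x * y * x⁻¹ * y⁻¹)) :
    ∀ x ∈ closure E, ∀ y ∈ closure E, x * y * x⁻¹ * y⁻¹ ∈ centralizer ((closure A : Subgroup G) : Set G) := by
  set C := centralizer ((closure A : Subgroup G) : Set G) with hC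
  have hle : closure E ≤ closure A := (closure_le _).2 hE
  have hc : ∀ {c x : G}, c ∈ C → x ∈ closure E → x * c = c * x := fun {c x} hc hx =>
    mem_centralizer_iff.1 hc x (hle hx)
  have h0 : ∀ x ∈ E, ∀ y ∈ E, x * y * x⁻¹ * y⁻¹ ∈ C := by
    intro x hx y hy
    rw [hC, centralizer_closure, mem_centralizer_iff]
    exact fun z hz => (h x hx y hy z hz).symm
  have step : ∀ y ∈ closure E, (∀ x ∈ E, x * y * x⁻¹ * y⁻¹ ∈ C) → ∀ x ∈ closure E, x * y * x⁻¹ * y⁻¹ ∈ C := by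
    intro y hy h1 x hx
    refine closure_induction (p := fun x _ => x * y * x⁻¹ * y⁻¹ ∈ C) h1 ?_ ?_ ?_ hx
    · have : (1 : G) * y * 1⁻¹ * y⁻¹ = 1 := by group
      rw [this]
      exact one_mem C
    · intro a b ha _ h2 h3
      have e : a * b * y * (a * b)⁻¹ * y⁻¹ = (b * y * b⁻¹ * y⁻¹) * (a * y * a⁻¹ * y⁻¹) := by
        calc a * b * y * (a * b)⁻¹ * y⁻¹ = (a * (b * y * b⁻¹ * y⁻¹)) * (y * a⁻¹ * y⁻¹) := by group
          _ = ((b * y * b⁻¹ * y⁻¹) * a) * (y * a⁻¹ * y⁻¹) := by rw [hc h3 ha]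
          _ = _ := by group
      rw [e]
      exact mul_mem h3 h2
    · intro a ha h2
      have e : a⁻¹ * y * a⁻¹⁻¹ * y⁻¹ = (a * y * a⁻¹ * y⁻¹)⁻¹ := by
        have h3 := hc (inv_mem h2) (inv_mem ha)
        calc a⁻¹ * y * a⁻¹⁻¹ * y⁻¹ = (a⁻¹ * (a * y * a⁻¹ * y⁻¹)⁻¹) * a := by group
          _ = ((a * y * a⁻¹ * y⁻¹)⁻¹ * a⁻¹) * a := by rw [h3]
          _ = _ := by group
      rw [e]
      exact inv_mem h2
  have symm : ∀ {x y : G}, x * y * x⁻¹ * y⁻¹ ∈ C → y * x * y⁻¹ * x⁻¹ ∈ C := fun {x y} h1 => by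
    have e : y * x * y⁻¹ * x⁻¹ = (x * y * x⁻¹ * y⁻¹)⁻¹ := by group
    rw [e]
    exact inv_mem h1
  intro x hx y hy
  refine step y hy (fun a ha => symm ?_) x hx
  exact step a (subset_closure ha) (fun b hb => h0 b hb a ha) y hy

namespace PW

variable [Finite G] (p : PW Z K)

include p

/-- elements of different blocks commute -/
theorem comm_of (f : Frm Z K F) (hA : A ∈ F) (hB : B ∈ F) (hAB : A ≠ B) (ha : a ∈ A) (hb : b ∈ B) : a * b = b * a :=
  f.cm A hA B hB hAB a ha b hb a (p.w.mem a (f.sub A hA ha)) b (p.w.mem b (f.sub B hB hb))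

theorem comm_closure_of (f : Frm Z K F) (hA : A ∈ F) (hB : B ∈ F) (hAB : A ≠ B) (ha : a ∈ closure A)
    (hb : b ∈ closure B) : a * b = b * a := by
  have h1 : closure A ≤ centralizer (B : Set G) := (closure_le _).2 fun x hx => mem_centralizer_iff.2 fun y hy =>
    (p.comm_of f hA hB hAB hx hy).symm
  have h2 : closure B ≤ centralizer {a} := (closure_le _).2 fun y hy =>
    mem_centralizer_singleton_iff.2 (mem_centralizer_iff.1 (h1 ha) y hy)
  exact (mem_centralizer_singleton_iff.1 (h2 hb)).symm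

/-- with two blocks `C(u)`, `u ∈ B`, normalises the block `A` -/
theorem norm_block (f : Frm Z K F) (hA : A ∈ F) (hB : B ∈ F) (hAB : A ≠ B) (hF : ∀ C ∈ F, C = A ∨ C = B) (hu : u ∈ B)
    (hc : c * u = u * c) (hy : y ∈ A) : c * y * c⁻¹ ∈ A := by
  have hu' : u ∈ (fun y => c * y * c⁻¹) '' B := ⟨u, hu, by simp only [hc, mul_inv_cancel_right]⟩
  obtain ⟨h1, h2⟩ := f.uniq p.w (f.conj p.w c) hB ⟨B, hB, rfl⟩ hu hu'
  have h3 : (fun y => c * y * c⁻¹) '' A ∈ (fun A : Set G => (fun y => c * y * c⁻¹) '' A) '' F := ⟨A, hA, rfl⟩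
  rw [← h1] at h3
  have inj : Function.Injective (fun y : G => c * y * c⁻¹) := fun y y' hy => by
    have := mul_right_cancel hy
    exact mul_left_cancel this
  rcases hF _ h3 with h4 | h4
  · rw [← h4]
    exact ⟨y, hy, rfl⟩
  · exact absurd (inj.image_injective (h4.trans h2)) hAB

/-- **(F2)** -/
theorem csw (hz : z ∈ Z) (hx : x ∈ Z) (hs : CSw K z x) : SF Z K z x := by
  by_contra hn
  obtain ⟨F, f, A, hA, B, hB, hAB, hzA, hF, h1, h2⟩ := p.csw_cases hz hx hs hn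
  obtain ⟨F', f', X, hX, Y, hY, hXY, hxX, hF', h3, h4⟩ :=
    p.csw_cases hx hz (p.w.csw_symm hz hx hs) (fun h => hn h.symm)
  have nsf : ∀ {a b : G}, (∃ C ∈ F, a ∈ C) → (∃ D ∈ F', b ∈ D) → ¬ SF Z K a b := by
    rintro a b ⟨C, hC, ha⟩ ⟨D, hD, hb⟩ h
    exact hn (p.sf_trans (p.sf_trans ⟨F, f, ⟨A, hA, hzA⟩, C, hC, ha⟩ h) ⟨F', f', ⟨D, hD, hb⟩, X, hX, hxX⟩)
  have ya : ∀ y ∈ A, (∀ b ∈ X, y * b * y⁻¹ ∈ Y) ∧ ∀ b ∈ Y, y * b * y⁻¹ ∈ X := fun y hy =>
    p.csw_move f' hX hY hXY hF' hxX (f.sub A hA hy)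
      (p.w.csw_symm (f.sub A hA hy) hx (p.cp_of f hA hB hAB hy (h1 y hy)))
      (fun h => nsf ⟨A, hA, hy⟩ ⟨X, hX, hxX⟩ h.symm)
  have bX : ∀ b ∈ X, ∀ y ∈ A, b * y * b⁻¹ ∈ B := fun b hb =>
    (p.csw_move f hA hB hAB hF hzA (f'.sub X hX hb)
      (p.w.csw_symm (f'.sub X hX hb) hz (p.cp_of f' hX hY hXY hb (h3 b hb)))
      (nsf ⟨A, hA, hzA⟩ ⟨X, hX, hb⟩)).1
  have bY : ∀ b ∈ Y, ∀ y ∈ A, b * y * b⁻¹ ∈ B := fun b hb =>
    (p.csw_move f hA hB hAB hF hzA (f'.sub Y hY hb)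
      (p.w.csw_symm (f'.sub Y hY hb) hz (p.cp_of f' hY hX hXY.symm hb (h4 b hb)))
      (nsf ⟨A, hA, hzA⟩ ⟨Y, hY, hb⟩)).1
  have sqA : ∀ y ∈ A, y * y = 1 := fun y hy => p.w.sq y (f.sub A hA hy)
  have dX : ∀ b ∈ X, ∀ y ∈ A, ∀ y' ∈ A, (y * y') * (b * (y * y') * b⁻¹) = (y * b * y⁻¹) * (y' * b * y'⁻¹) :=
    fun b hb y hy y' hy' => diag_eq (sqA y hy) (sqA y' hy') (p.w.sq b (f'.sub X hX hb))
      (p.comm_of f hA hB hAB hy' (bX b hb y hy)) (p.comm_of f' hX hY hXY hb ((ya y' hy').1 b hb))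
  have dY : ∀ b ∈ Y, ∀ y ∈ A, ∀ y' ∈ A, (y * y') * (b * (y * y') * b⁻¹) = (y * b * y⁻¹) * (y' * b * y'⁻¹) :=
    fun b hb y hy y' hy' => diag_eq (sqA y hy) (sqA y' hy') (p.w.sq b (f'.sub Y hY hb))
      (p.comm_of f hA hB hAB hy' (bY b hb y hy)) (p.comm_of f' hY hX hXY.symm hb ((ya y' hy').2 b hb))
  -- the even part
  set E : Set G := {q | ∃ y ∈ A, ∃ y' ∈ A, q = y * y'} with hE
  have hEA : E ⊆ (closure A : Subgroup G) := by
    rintro _ ⟨y, hy, y', hy', rfl⟩
    exact mul_mem (subset_closure hy) (subset_closure hy')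
  have hEB : ∀ {b : G}, (∀ y ∈ A, b * y * b⁻¹ ∈ B) → ∀ q ∈ E, b * q * b⁻¹ ∈ closure B := by
    rintro b hb _ ⟨y, hy, y', hy', rfl⟩
    have e : b * (y * y') * b⁻¹ = (b * y * b⁻¹) * (b * y' * b⁻¹) := by group
    rw [e]
    exact mul_mem (subset_closure (hb y hy)) (subset_closure (hb y' hy'))
  have key : ∀ q ∈ E, ∀ r ∈ E, ∀ y ∈ A, (q * r * q⁻¹ * r⁻¹) * y = y * (q * r * q⁻¹ * r⁻¹) := by
    intro q hq r hr y hy
    have hx' := h3 x hxX
    set x' := z * x * z⁻¹ with hx'def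
    have hq1 := hEB (bX x hxX) q hq
    have hr1 := hEB (bY x' hx') r hr
    set Q := x * q * x⁻¹ with hQ
    set R := x' * r * x'⁻¹ with hR
    have cAB : ∀ {a b : G}, a ∈ closure A → b ∈ closure B → a * b = b * a := fun ha hb =>
      p.comm_closure_of f hA hB hAB ha hb
    have hcm : (q * Q) * (r * R) = (r * R) * (q * Q) := by
      obtain ⟨y1, hy1, y2, hy2, hq'⟩ := hq
      obtain ⟨y3, hy3, y4, hy4, hr'⟩ := hr
      have e1 : q * Q = (y1 * x * y1⁻¹) * (y2 * x * y2⁻¹) := by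
        rw [hQ, hq']
        exact dX x hxX y1 hy1 y2 hy2
      have e2 : r * R = (y3 * x' * y3⁻¹) * (y4 * x' * y4⁻¹) := by
        rw [hR, hr']
        exact dY x' hx' y3 hy3 y4 hy4
      rw [e1, e2]
      exact (p.comm_closure_of f' hX hY hXY
        (mul_mem (subset_closure ((ya y3 hy3).2 x' hx')) (subset_closure ((ya y4 hy4).2 x' hx')))
        (mul_mem (subset_closure ((ya y1 hy1).1 x hxX)) (subset_closure ((ya y2 hy2).1 x hxX)))).symm
    have c1 : Q * r = r * Q := (cAB (hEA hr) hq1).symm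
    have c2 : R * q = q * R := (cAB (hEA hq) hr1).symm
    have e3 : q * r * (Q * R) = r * q * (R * Q) := by
      calc q * r * (Q * R) = q * (r * Q) * R := by group
        _ = q * (Q * r) * R := by rw [c1]
        _ = (q * Q) * (r * R) := by group
        _ = (r * R) * (q * Q) := hcm
        _ = r * (R * q) * Q := by group
        _ = r * (q * R) * Q := by rw [c2]
        _ = r * q * (R * Q) := by group
    have hW : (R * Q) * (Q * R)⁻¹ ∈ closure B := mul_mem (mul_mem hr1 hq1) (inv_mem (mul_mem hq1 hr1))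
    have hrq : r * q ∈ closure A := mul_mem (hEA hr) (hEA hq)
    have e4 : q * r * q⁻¹ * r⁻¹ = (R * Q) * (Q * R)⁻¹ := by
      have e5 : q * r = r * q * ((R * Q) * (Q * R)⁻¹) := by
        rw [eq_comm, ← mul_assoc, mul_inv_eq_iff_eq_mul, e3]
      calc q * r * q⁻¹ * r⁻¹ = (q * r) * (r * q)⁻¹ := by group
        _ = r * q * ((R * Q) * (Q * R)⁻¹) * (r * q)⁻¹ := by rw [← e5]
        _ = ((R * Q) * (Q * R)⁻¹) * (r * q) * (r * q)⁻¹ := by rw [cAB hrq hW]
        _ = _ := by rw [mul_inv_cancel_right]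
    rw [e4]
    exact (cAB (subset_closure hy) hW).symm
  have hP := comm_closure hEA key
  set P := closure E with hPdef
  have hPA : P ≤ closure A := (closure_le _).2 hEA
  have hnil : Group.IsNilpotent P := isNilpotent_of_comm fun q hq r hr s hs =>
    (mem_centralizer_iff.1 (hP q hq r hr) s (hPA hs)).symm
  -- `C(u)` normalises `P`
  have huB := h1 z hzA
  set u := x * z * x⁻¹ with hu
  have huZ : u ∈ Z := f.sub B hB huB
  have hnor : ∀ {c : G}, c * u = u * c → c ∈ normalizer (P : Set G) := by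
    intro c hc
    apply mem_normalizer_of_conj_le
    intro q hq
    have h5 : P ≤ P.comap (MulAut.conj c).toMonoidHom := (closure_le _).2 (by
      rintro _ ⟨y, hy, y', hy', rfl⟩
      refine subset_closure ⟨_, p.norm_block f hA hB hAB hF huB hc hy, _, p.norm_block f hA hB hAB hF huB hc hy', ?_⟩
      change c * (y * y') * c⁻¹ = _
      group)
    exact h5 hq
  have hPu : P ≤ centralizer {u} := (closure_le _).2 (by
    rintro _ ⟨y, hy, y', hy', rfl⟩
    refine mul_mem ?_ ?_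
    · exact mem_centralizer_singleton_iff.2 (p.comm_of f hA hB hAB hy huB)
    · exact mem_centralizer_singleton_iff.2 (p.comm_of f hA hB hAB hy' huB))
  have hodd : oP' 2 P = ⊥ := p.cf u huZ (oP' 2 P) ((oP'_le 2 P).trans hPu)
    (fun c hc => normalizer_le_oP' 2 P (hnor (mem_centralizer_singleton_iff.1 hc)))
    (Nat.coprime_two_right.1 (coprime_oP' 2 P))
  have hP2 : IsPGroup 2 P := by
    have h5 := oP_sup_oP' hnil 2
    rw [hodd, sup_bot_eq] at h5
    rw [← h5]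
    exact isPGroup_oP 2 P
  have hzu : z * u = u * z := p.comm_of f hA hB hAB hzA huB
  have hR : IsPGroup 2 (zpowers z ⊔ P : Subgroup G) :=
    OneBasic.isPGroup_sup_of_normalizes (isPGroup_zpowers_inv (p.w.sq z hz)) hP2 (by
      rw [zpowers_le]
      exact hnor hzu)
  have hAR : A ⊆ (zpowers z ⊔ P : Subgroup G) := by
    intro y hy
    have e : y = (y * z) * z := by rw [mul_assoc, p.w.sq z hz, mul_one]
    rw [e]
    exact mul_mem ((le_sup_right : P ≤ _) (subset_closure ⟨y, hy, z, hzA, rfl⟩))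
      ((le_sup_left : zpowers z ≤ _) (mem_zpowers z))
  have hAn : A ∈ NN Z K u := by
    rw [f.nn B hB u huB]
    exact ⟨hA, hAB⟩
  obtain ⟨h5, h6, h7⟩ := NN_cl p.w hAn hzA
  exact h6 (nil_down p.w h5 hR (by rw [← h7]; exact hAR))

end PW

end Cfsg.Agent.Cit.Nil.Comp
end

-- part: Cit/Nil/Comp/ProdM
section
set_option linter.all false
open scoped Cfsg.Agent.FastGrp

/-!
# S1309 (6b), `r = 1`, COMP: the product situation, the subgroup `M` (helper454, bb R18 #15492 (F3))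

* `PW.PM` : the stabiliser of the frame of `z`;
* `PW.sf_of_mem`, `PW.mem_of_mem` : **(F3)** `Z ∩ M = Σ`, and `M` controls the fusion of `Σ`.

No K-fact is used: the case `m = 2`, two blocks, is `TB.false_of`.
-/

set_option autoImplicit false
set_option linter.style.haveILetI false
set_option linter.unusedSectionVars false

namespace Cfsg.Agent.Cit.Nil.Comp

open Subgroup Cfsg Cfsg.Agent.Cit Cfsg.Agent.Cit.Nil.ROne Cfsg.Agent.Cit.Nil.AN
open Cfsg.Agent.OddOrderLocal.NilParts Cfsg.Agent.StdEven.Syl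

variable {G : Type*} [Group G] {Z : Set G} {K : G → Subgroup G} {z u v x y g s a b c : G} {A B : Set G}
  {F F' : Set (Set G)}

namespace PW

section

variable [Finite G] (p : PW Z K)

/-- the stabiliser of the frame of `z` -/
def PM (z : G) (hz : z ∈ Z) : Subgroup G where
  carrier := {g | SF Z K z (g * z * g⁻¹)}
  one_mem' := by
    change SF Z K z (1 * z * 1⁻¹)
    rw [one_mul, inv_one, mul_one]
    exact p.sf_refl hz
  mul_mem' := by
    intro a b ha hb
    have h1 := p.sf_conj a hb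
    rw [Gr.conj_conj] at h1
    exact p.sf_trans ha h1
  inv_mem' := by
    intro a ha
    have h1 := p.sf_conj a⁻¹ ha
    rw [Gr.conj_inv_conj] at h1
    exact h1.symm

include p

theorem mem_PM_iff (hz : z ∈ Z) : g ∈ p.PM z hz ↔ SF Z K z (g * z * g⁻¹) := Iff.rfl

/-- the members of `S` lie in one frame -/
theorem sf_CS {S : Subgroup G} (hS : IsPGroup 2 S) (hz : z ∈ CS Z K S) (hu : u ∈ CS Z K S) : SF Z K z u := by
  by_cases h1 : z = u
  · rw [← h1]
    exact p.sf_refl hz.1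
  · exact p.cp hz.1 hu.1 (p.w.com hz.1 hu.1 hS hz.2 hu.2 h1)

theorem conj_CS {S : Subgroup G} (hx : x ∈ S) (hz : z ∈ CS Z K S) : x * z * x⁻¹ ∈ CS Z K S := by
  refine ⟨p.w.conjZ z hz.1 x, ?_⟩
  rw [p.w.conjK z hz.1]
  intro k hk
  have h2 := mul_mem (mul_mem hx (hz.2 (mem_cj.1 hk))) (inv_mem hx)
  simpa [mul_assoc] using h2

theorem sylow_le {S : Subgroup G} (hS : IsPGroup 2 S) (hz : z ∈ Z) (h1 : K z ≤ S) : S ≤ p.PM z hz := fun _ hs =>
  p.sf_CS hS ⟨hz, h1⟩ (p.conj_CS hs ⟨hz, h1⟩)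

/-- an element of the frame of `z` lies in a block -/
theorem exists_block (f : Frm Z K F) (hA : A ∈ F) (hz : z ∈ A) (h : SF Z K z v) : ∃ C ∈ F, v ∈ C := by
  obtain ⟨F', f', ⟨A', hA', hz'⟩, hv⟩ := h
  obtain ⟨rfl, -⟩ := f.uniq p.w f' hA hA' hz hz'
  exact hv

/-- `C_S` meets all blocks -/
theorem meet (f : Frm Z K F) {S : Sylow 2 G} (hz : z ∈ CS Z K (S : Subgroup G)) (hA : A ∈ F) (hzA : z ∈ A)
    (hB : B ∈ F) : ∃ u ∈ CS Z K (S : Subgroup G), u ∈ B := by
  by_contra hcon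
  push Not at hcon
  obtain ⟨b, hb⟩ := f.ne B hB
  refine hcon b (p.w.mem_CS_of_clique S (f.sub B hB hb) fun v hv => Or.inr ?_) hb
  obtain ⟨C, hC, hvC⟩ := p.exists_block f hA hzA (p.sf_CS S.isPGroup' hz hv)
  refine p.cp_of f hC hB ?_ hvC hb
  rintro rfl
  exact hcon v hv hvC

/-- (F3) for elements of a Sylow subgroup -/
theorem sf_of_sylow (c3 : C3 Z K) (S : Sylow 2 G) (hz : z ∈ CS Z K (S : Subgroup G)) (hx : x ∈ Z)
    (hxS : x ∈ (S : Subgroup G)) : SF Z K z x := by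
  by_contra hn
  have hS := S.isPGroup'
  have hcom : ∀ v ∈ CS Z K (S : Subgroup G), x * v = v * x := by
    intro v hv
    by_contra hne
    have hv' := p.conj_CS hxS hv
    have hne' : v ≠ x * v * x⁻¹ := fun e => hne (by
      calc x * v = x * v * x⁻¹ * x := by group
        _ = v * x := by rw [← e])
    exact hn (p.sf_trans (p.sf_CS hS hz hv) (p.csw hv.1 hx (p.w.com hv.1 hv'.1 hS hv.2 hv'.2 hne')))
  have hnc : ∀ {v : G}, SF Z K z v → ¬ CP K x v := fun hv hc => hn (p.sf_trans hv (p.cp hx hv.mem_right hc).symm)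
  have hxv : ∀ {v : G}, SF Z K z v → x ≠ v := fun hv e => hn (e ▸ hv)
  have hT : ∀ v₁ ∈ CS Z K (S : Subgroup G), ∀ v₂ ∈ CS Z K (S : Subgroup G), v₁ ≠ v₂ → Cen K (v₁ * v₂) x := by
    intro v₁ h1 v₂ h2 hne
    have s1 := p.sf_CS hS hz h1
    have s2 := p.sf_CS hS hz h2
    exact p.w.triple_cen hx h1.1 h2.1 (p.w.com h1.1 h2.1 hS h1.2 h2.2 hne) (hcom v₁ h1) (hcom v₂ h2) (hnc s1) (hnc s2)
      (hxv s1) (hxv s2)
  obtain ⟨F, f, A, hA, hzA⟩ := p.fr z hz.1
  have hbl : ∀ v₁ ∈ CS Z K (S : Subgroup G), ∀ v₂ ∈ CS Z K (S : Subgroup G), v₁ ≠ v₂ → ∀ B ∈ F, v₁ ∈ B ∨ v₂ ∈ B := by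
    intro v₁ h1 v₂ h2 hne B hB
    by_contra hcon
    push Not at hcon
    obtain ⟨C₁, hC₁, hv₁⟩ := p.exists_block f hA hzA (p.sf_CS hS hz h1)
    obtain ⟨C₂, hC₂, hv₂⟩ := p.exists_block f hA hzA (p.sf_CS hS hz h2)
    have e1 : ∀ b ∈ B, Cm (K v₁) (K b) := fun b hb =>
      (p.cp_of f hC₁ hB (by rintro rfl; exact hcon.1 hv₁) hv₁ hb).2
    have e2 : ∀ b ∈ B, Cm (K v₂) (K b) := fun b hb =>
      (p.cp_of f hC₂ hB (by rintro rfl; exact hcon.2 hv₂) hv₂ hb).2
    have hc := p.w.com h1.1 h2.1 hS h1.2 h2.2 hne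
    apply hn
    refine p.block' f hB (TP.of_mul p.w p.tp h1.1 h2.1 hc) (fun b hb => ?_) (z := v₁) ⟨h1.1, ?_⟩ e1 (x := x)
      ⟨hx, hT v₁ h1 v₂ h2 hne⟩ (fun h3 => ?_) hA hzA
    · exact (ce_of_cm p.w h1.1 (e1 b hb).symm).mul (ce_of_cm p.w h2.1 (e2 b hb).symm)
    · exact (ce_self p.w h1.1).mul (ce_of_cm p.w h2.1 hc.2)
    · exact hnc (p.sf_CS hS hz h1) ((cp_iff p.w hx).2 h3)
  obtain ⟨B, hB, hBA⟩ := f.other hA
  obtain ⟨u, huS, huB⟩ := p.meet f hz hA hzA hB
  have hzB : z ∉ B := fun h1 => hBA (f.disj p.w hB hA h1 hzA)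
  have huA : u ∉ A := fun h1 => hBA (f.disj p.w hB hA huB h1)
  have hzu : z ≠ u := fun e => hzB (e ▸ huB)
  have hF : ∀ C ∈ F, C = A ∨ C = B := by
    intro C hC
    rcases hbl z hz u huS hzu C hC with h1 | h1
    · exact Or.inl (f.disj p.w hC hA h1 hzA)
    · exact Or.inr (f.disj p.w hC hB h1 huB)
  have h2 : ∀ v ∈ CS Z K (S : Subgroup G), v = z ∨ v = u := by
    intro v hv
    by_contra hcon
    push Not at hcon
    obtain ⟨C, hC, hvC⟩ := p.exists_block f hA hzA (p.sf_CS hS hz hv)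
    rcases hF C hC with rfl | rfl
    · rcases hbl z hz v hv (Ne.symm hcon.1) B hB with h3 | h3
      · exact hzB h3
      · exact hBA (f.disj p.w hB hC h3 hvC)
    · rcases hbl u huS v hv (Ne.symm hcon.2) A hA with h3 | h3
      · exact huA h3
      · exact hBA (f.disj p.w hC hA hvC h3)
  have hCS : CS Z K (S : Subgroup G) = {z, u} := by
    ext v
    constructor
    · exact fun hv => h2 v hv
    · rintro (rfl | rfl)
      · exact hz
      · exact huS
  have hcard : ∀ S' : Sylow 2 G, (CS Z K (S' : Subgroup G)).ncard = 2 := by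
    intro S'
    haveI : Fact (Nat.Prime 2) := ⟨Nat.prime_two⟩
    obtain ⟨g, hg⟩ := MulAction.exists_smul_eq G S S'
    have hgS : (S' : Subgroup G) = cj g S := by
      rw [← hg]
      rfl
    rw [hgS, p.w.ncard_CS_cj g S, hCS]
    exact Set.ncard_pair hzu
  have hBn : B ∈ NN Z K z := by
    rw [f.nn A hA z hzA]
    exact ⟨hB, hBA⟩
  have hcp := p.w.com hz.1 huS.1 hS hz.2 huS.2 hzu
  have n3 : ∀ a ∈ Z, ∀ b ∈ Z, ∀ c ∈ Z, CP K a b → CP K a c → CP K b c → False := by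
    intro a ha b hb c hc hab hac hbc
    obtain ⟨S', ha', hb'⟩ := p.w.exists_sylow_of_cp ha hb hab
    obtain ⟨v, w, -, hvw⟩ := Set.ncard_eq_two.1 (hcard S')
    have h3 : ∀ y ∈ CS Z K (S' : Subgroup G), y = a ∨ y = b := by
      intro y hy
      rw [hvw] at ha' hb' hy
      rcases ha' with h4 | h4 <;> rcases hb' with h5 | h5
      · exact (hab.1 (h4.trans h5.symm)).elim
      · rcases hy with h6 | h6
        · exact Or.inl (h6.trans h4.symm)
        · exact Or.inr (Eq.trans h6 (Eq.symm h5))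
      · rcases hy with h6 | h6
        · exact Or.inr (h6.trans h5.symm)
        · exact Or.inl (Eq.trans h6 (Eq.symm h4))
      · exact (hab.1 (Eq.trans h4 (Eq.symm h5))).elim
    have h4 : c ∈ CS Z K (S' : Subgroup G) := p.w.mem_CS_of_clique S' hc fun y hy => by
      rcases h3 y hy with rfl | rfl
      · exact Or.inr hac
      · exact Or.inr hbc
    rcases h3 c h4 with h5 | h5
    · exact hac.1 h5.symm
    · exact hbc.1 h5.symm
  have hsA : ∀ {v : G}, v ∈ A → CP K v u := fun hv => p.cp_of f hA hB hBA.symm hv huB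
  have hsB : ∀ {v : G}, v ∈ B → CP K v z := fun hv => p.cp_of f hB hA hBA hv hzA
  have hsg : ∀ {v : G}, SF Z K z v → v ∈ A ∨ v ∈ B := by
    intro v hv
    obtain ⟨C, hC, hvC⟩ := p.exists_block f hA hzA hv
    rcases hF C hC with rfl | rfl
    · exact Or.inl hvC
    · exact Or.inr hvC
  have hsu : SF Z K z u := p.sf_CS hS hz huS
  have hsv : ∀ {v : G}, v ∈ Z → (CP K v u ∨ CP K v z) → SF Z K z v := by
    rintro v hv (h3 | h3)
    · exact p.sf_trans hsu (p.cp hv huS.1 h3).symm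
    · exact (p.cp hv hz.1 h3).symm
  have hsg' : ∀ {v : G}, SF Z K z v → CP K v u ∨ CP K v z := fun hv => (hsg hv).imp hsA hsB
  have t : TB Z K z u := by
    refine ⟨p.w, hz.1, huS.1, hcp, n3, ?_, ?_, ?_⟩
    · intro a ha b hb hau hbz
      have h3 : a ∈ A := (hsg (hsv ha (Or.inl hau))).resolve_right fun h4 => n3 a ha z hz.1 u huS.1 (hsB h4) hau hcp
      have h4 : b ∈ B := (hsg (hsv hb (Or.inr hbz))).resolve_left fun h5 => n3 b hb z hz.1 u huS.1 hbz (hsA h5) hcp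
      exact p.cp_of f hA hB hBA.symm h3 h4
    · intro v hv y hy h3 h4
      exact hsg' (p.sf_trans (hsv hv h3) (p.cp hv hy h4))
    · rintro y hy v (rfl | rfl) h4
      · exact hsg' (p.csw hz.1 hy h4)
      · exact hsg' (p.sf_trans hsu (p.csw huS.1 hy h4))
  obtain ⟨c, hc⟩ := t.exists_bu (p.cf z hz.1) (by
    by_contra hcon
    push Not at hcon
    have h3 := NN_cl p.w hBn huB
    exact h3.2.1 (nil_of_ce p.w h3.1 fun v hv k hk => (hcon k ((cl_sub h3.1 hv).2 k hk).symm).symm))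
  exact t.false_of c3 hc hx ⟨hxv (p.sf_refl hz.1), hcom z hz, hnc (p.sf_refl hz.1)⟩ ⟨hxv hsu, hcom u huS, hnc hsu⟩

/-- **(F3)** `Z ∩ M = Σ` -/
theorem sf_of_mem (c3 : C3 Z K) (hz : z ∈ Z) (hx : x ∈ Z) (hxM : x ∈ p.PM z hz) : SF Z K z x := by
  obtain ⟨S, hzS⟩ := p.w.exists_sylow hz
  have hSM : (S : Subgroup G) ≤ p.PM z hz := p.sylow_le S.isPGroup' hz hzS.2
  have hSy : IsSyl (S : Subgroup G) (p.PM z hz) := (isSyl_top_of_sylow S).mono hSM le_top
  obtain ⟨n, hn, hn2⟩ := hSy.exists_conj (isPGroup_zpowers_inv (p.w.sq x hx)) (by rwa [zpowers_le])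
  have h1 := p.sf_of_sylow c3 S hzS (p.w.conjZ x hx n) (hn2 x (mem_zpowers x))
  have h2 := p.sf_conj n⁻¹ h1
  rw [Gr.conj_inv_conj] at h2
  exact p.sf_trans ((p.mem_PM_iff hz).1 (inv_mem hn)) h2

/-- **(F3)** `M` controls the fusion of `Σ` -/
theorem mem_of_mem (c3 : C3 Z K) (hz : z ∈ Z) (hx : x ∈ Z) (h1 : x ∈ p.PM z hz) (h2 : g⁻¹ * x * g ∈ p.PM z hz) :
    g ∈ p.PM z hz := by
  have h3 := p.sf_of_mem c3 hz hx h1
  have hx' : g⁻¹ * x * g⁻¹⁻¹ ∈ Z := p.w.conjZ x hx g⁻¹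
  rw [inv_inv] at hx'
  have h4 := p.sf_of_mem c3 hz hx' h2
  have h5 := p.sf_conj g h4
  have h6 : g * (g⁻¹ * x * g) * g⁻¹ = x := by group
  rw [h6] at h5
  exact p.sf_trans h3 h5.symm

end

end PW

end Cfsg.Agent.Cit.Nil.Comp
end

-- part: Cit/Nil/Comp/ProdGlue
section
set_option linter.all false

/-!
# S1309 (6b), `r = 1`, COMP: the product situation, from `PW` to `Fram`
-/

set_option autoImplicit false
set_option linter.style.haveILetI false

namespace Cfsg.Agent.Cit.Nil.Comp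

open Subgroup Cfsg Cfsg.Agent.Cit Cfsg.Agent.Cit.Nil.ROne Cfsg.Agent.Cit.Nil.AN

variable {G : Type*} [Group G] {Z : Set G} {K : G → Subgroup G} {z x g s : G}

/-- helper191's structure -/
theorem PW.fram [Finite G] (p : PW Z K) (c3 : C3 Z K) : Fram Z K (sgOf Z K) (klOf Z K) :=
  Fram.of_frm p.w p.fr (fun _ hu _ hv hc => p.cp hu hv hc) (fun _ hx _ hu hc => p.csw hu hx hc)
    (fun _ hz _ hx hc => p.sf_of_mem c3 hz hx hc)

end Cfsg.Agent.Cit.Nil.Comp
end

-- part: Cit/Nil/Comp/MThree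
section
prune_inst 0x20100000502200000000000000000000100000020040000000000000084800010005000030500010011004b0600a8020000000090228000020008a0000040000040120e200341c00110000404800000000000000000000000000000000000000000000000
set_option linter.all false
open scoped Cfsg.Agent.FastGrp

/-!
# S1309 (n6a), AllOne branch, (M3): three pairwise commuting members are impossible

`SecSW Z K z a φ OmY` : the group `Y = φ(X)`, `X = ⟨K b : b ∈ Cl Z K z a⟩`, `Ker φ = Z(X)`, is in the world (S) with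
the family `OmY` of the images of the `K b`.

`Tri.label` : in the section of `z` there is an element `c` with `c² = z`, centralising `K z`, `K a`, `K b`
(a lift of a label at the image of `a`).  `Tri.false_of` : the contradiction in the section of `a`.
-/

set_option autoImplicit false
set_option linter.style.haveILetI false
set_option linter.unusedSectionVars false

namespace Cfsg.Agent.Cit.Nil.Comp

open Subgroup Cfsg Cfsg.Agent.Cit Cfsg.Agent.Cit.Nil.ROne Cfsg.Agent.Cit.Nil.AN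
open Cfsg.Agent.OddOrderLocal.NilParts
open Cfsg.Agent.Cit.Nil.RTwo (SW CC CX RZ InZ Mem Lab W2 mem_CX RZ_le)

variable {G : Type*} [Group G] {Z : Set G} {K : G → Subgroup G} {z a b u v x y g : G}

/-- see the head of the file -/
structure SecSW (Z : Set G) (K : G → Subgroup G) (z a : G) {Y : Type*} [Group Y]
    (φ : ↥(Gp K (Cl Z K z a)) →* Y) (OmY : Set (Subgroup Y)) : Prop where
  surj : Function.Surjective φ
  ker : φ.ker = center ↥(Gp K (Cl Z K z a))
  mem : ∀ P, P ∈ OmY ↔ ∃ b ∈ Cl Z K z a, P = ((K b).subgroupOf (Gp K (Cl Z K z a))).map φ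
  sw : SW OmY

/-- a triple of pairwise commuting members -/
structure Tri (Z : Set G) (K : G → Subgroup G) (z a b : G) : Prop where
  hz : z ∈ Z
  ha : a ∈ Z
  hb : b ∈ Z
  cza : CP K z a
  czb : CP K z b
  cab : CP K a b

theorem cp_sym {K : G → Subgroup G} (h : CP K z u) : CP K u z := ⟨h.1.symm, fun a ha b hb => (h.2 b hb a ha).symm⟩

theorem Tri.rot (t : Tri Z K z a b) : Tri Z K a b z := ⟨t.ha, t.hb, t.hz, t.cab, cp_sym t.cza, cp_sym t.czb⟩

theorem Tri.swp (t : Tri Z K z a b) : Tri Z K z b a := ⟨t.hz, t.hb, t.ha, t.czb, t.cza, cp_sym t.cab⟩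

/-- an automorphism which normalises the kernel induces an automorphism of the image -/
theorem exists_aut_of_ker {X Y : Type*} [Group X] [Group Y] {φ : X →* Y} (hφ : Function.Surjective φ) (γ : MulAut X)
    (hk : φ.ker.map γ.toMonoidHom = φ.ker) : ∃ α : MulAut Y, ∀ x, α (φ x) = φ (γ x) := by
  let E := QuotientGroup.quotientKerEquivOfSurjective φ hφ
  let c := QuotientGroup.congr φ.ker φ.ker γ hk
  refine ⟨(E.symm.trans c).trans E, fun x => ?_⟩
  have h1 : E.symm (φ x) = (x : X ⧸ φ.ker) := by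
    rw [MulEquiv.symm_apply_eq]
    rfl
  change E (c (E.symm (φ x))) = _
  rw [h1]
  rfl

section

variable [Finite G] (h : W Z K) (ao : AllOne Z K) (t : Tri Z K z a b)

include h ao t

theorem Tri.aO : a ∈ Om Z K z := om_of_cm h t.hz t.ha t.cza.2

theorem Tri.nn : a ∉ oP 2 (centralizer {z}) := ao.not_nil z t.hz a t.ha t.cza

theorem Tri.b_mem : b ∈ Cl Z K z a := ao.cls z t.hz a t.ha b t.hb t.cza t.czb

theorem Tri.mul : a * b = z := by
  have h1 := ao.three z t.hz a t.ha b t.hb t.cza t.czb t.cab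
  rw [mul_assoc] at h1
  calc a * b = z⁻¹ * (z * (a * b)) := by group
    _ = z := by rw [h1, mul_one, h.inv t.hz]

theorem Tri.clZ (hu : u ∈ Cl Z K z a) : u ∈ Z := (cl_sub (t.aO h ao) hu).1

theorem Tri.cp (hu : u ∈ Cl Z K z a) : CP K z u := by
  have h1 := cl_sub (t.aO h ao) hu
  have hne : u ≠ z := by
    rintro rfl
    exact not_mem_of_not_nil h t.hz (t.aO h ao) (t.nn h ao) hu
  exact ⟨hne.symm, cm_of_om h t.hz h1 hne⟩

/-- an element of the class centralising `K a` is `a` or `b` -/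
theorem Tri.eq_or (hu : u ∈ Cl Z K z a) (hc : Ce u (K a)) : u = a ∨ u = b := by
  by_cases h1 : u = a
  · exact Or.inl h1
  right
  have huZ := t.clZ h ao hu
  have h2 : CP K a u := h.csymm t.ha huZ (Ne.symm h1) hc
  have h3 := ao.three z t.hz a t.ha u huZ t.cza (t.cp h ao hu) h2
  have h4 := ao.three z t.hz a t.ha b t.hb t.cza t.czb t.cab
  exact mul_left_cancel (h3.trans h4.symm)

theorem Tri.eq_or' (hu : u ∈ Cl Z K z a) (hc : Ce u (K b)) : u = a ∨ u = b := by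
  by_cases h1 : u = b
  · exact Or.inr h1
  left
  have huZ := t.clZ h ao hu
  have h2 : CP K b u := h.csymm t.hb huZ (Ne.symm h1) hc
  have h3 := ao.three z t.hz b t.hb u huZ t.czb (t.cp h ao hu) h2
  have h4 := ao.three z t.hz b t.hb a t.ha t.czb t.cza (cp_sym t.cab)
  exact mul_left_cancel (h3.trans h4.symm)

/-- no nontrivial element of `K u` is central in `X` -/
theorem Tri.inf (hu : u ∈ Cl Z K z a) (hx : x ∈ K u)
    (hc : ∀ g ∈ Gp K (Cl Z K z a), g * x = x * g) : x = 1 := by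
  have huZ := t.clZ h ao hu
  rcases h.eq_of_cen huZ hx (fun k hk => (hc k (le_Gp hu hk)).symm) with h1 | h1
  · exact h1
  exfalso
  subst h1
  refine ao.not_nil z t.hz x huZ (t.cp h ao hu) ?_
  refine nil_of_ce h (cl_sub (t.aO h ao) hu) fun v hv k hk => ?_
  rw [cl_eq (t.aO h ao) hu] at hv
  exact (hc k (le_Gp hv hk)).symm

end

section sec

variable [Finite G] (h : W Z K) (ao : AllOne Z K) (t : Tri Z K z a b)
variable {Y : Type*} [Group Y] [Finite Y] {φ : ↥(Gp K (Cl Z K z a)) →* Y} {OmY : Set (Subgroup Y)}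
variable (s : SecSW Z K z a φ OmY)

omit [Finite G] [Finite Y] in
include s in
theorem SecSW.eq_one_iff (hx : x ∈ Gp K (Cl Z K z a)) :
    φ ⟨x, hx⟩ = 1 ↔ ∀ g ∈ Gp K (Cl Z K z a), g * x = x * g := by
  rw [← MonoidHom.mem_ker, s.ker, mem_center_iff]
  constructor
  · intro h1 g hg
    exact congrArg Subtype.val (h1 ⟨g, hg⟩)
  · intro h1 g
    exact Subtype.ext (h1 g g.2)

include h ao t s

theorem SecSW.phi_ne (hu : u ∈ Cl Z K z a) (hx : x ∈ K u) (h1 : x ≠ 1) : φ ⟨x, le_Gp hu hx⟩ ≠ 1 := fun h2 =>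
  h1 (t.inf h ao hu hx ((s.eq_one_iff _).1 h2))

/-- the involution of a member of the section -/
theorem SecSW.zz_eq (hu : u ∈ Cl Z K z a) :
    zz (((K u).subgroupOf (Gp K (Cl Z K z a))).map φ) = φ ⟨u, le_Gp hu (h.mem u (t.clZ h ao hu))⟩ := by
  have huZ := t.clZ h ao hu
  have h1 : ((K u).subgroupOf (Gp K (Cl Z K z a))).map φ ∈ OmY := (s.mem _).2 ⟨u, hu, rfl⟩
  refine (s.sw.w.hyp.eq_zz h1 ?_ ?_ (s.phi_ne h ao t hu (h.mem u huZ) (h.ne u huZ))).symm
  · exact mem_map_of_mem _ (mem_subgroupOf.2 (h.mem u huZ))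
  · rw [← map_mul]
    exact (congrArg φ (Subtype.ext (h.sq u huZ))).trans (map_one φ)

/-- the images of `a` and `b` agree -/
theorem SecSW.phi_eq : φ ⟨b, le_Gp (t.b_mem h ao) (h.mem b t.hb)⟩ = φ ⟨a, le_Gp (cl_refl z a) (h.mem a t.ha)⟩ := by
  have ha : a ∈ Gp K (Cl Z K z a) := le_Gp (cl_refl z a) (h.mem a t.ha)
  have hb : b ∈ Gp K (Cl Z K z a) := le_Gp (t.b_mem h ao) (h.mem b t.hb)
  have hab := t.mul h ao
  have hz : z ∈ Gp K (Cl Z K z a) := by
    have h0 := mul_mem ha hb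
    rwa [hab] at h0
  have h1 : φ ⟨z, hz⟩ = 1 := by
    rw [s.eq_one_iff]
    intro g hg
    have h2 : Ce z (Gp K (Cl Z K z a)) := Gp_ce fun u hu => (cl_sub (t.aO h ao) hu).2
    exact (h2 g hg).symm
  have h2 : φ ⟨a, ha⟩ * φ ⟨b, hb⟩ = 1 := by
    rw [← h1, ← map_mul]
    exact congrArg φ (Subtype.ext hab)
  have h3 : φ ⟨a, ha⟩ * φ ⟨a, ha⟩ = 1 := by
    rw [← map_mul]
    exact (congrArg φ (Subtype.ext (h.sq a t.ha))).trans (map_one φ)
  exact mul_left_cancel (h2.trans h3.symm)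

/-- a member over the image of `a` is the image of `K a` or `K b` -/
theorem SecSW.mem_over {P : Subgroup Y} (hP : Mem OmY (φ ⟨a, le_Gp (cl_refl z a) (h.mem a t.ha)⟩) P) :
    P = ((K a).subgroupOf (Gp K (Cl Z K z a))).map φ ∨ P = ((K b).subgroupOf (Gp K (Cl Z K z a))).map φ := by
  obtain ⟨u, hu, rfl⟩ := (s.mem P).1 hP.1
  have h1 := hP.2
  rw [s.zz_eq h ao t hu] at h1
  have huZ := t.clZ h ao hu
  have h2 : ∀ g ∈ Gp K (Cl Z K z a), g * (a⁻¹ * u) = (a⁻¹ * u) * g := by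
    have h3 : a⁻¹ * u ∈ Gp K (Cl Z K z a) :=
      mul_mem (inv_mem (le_Gp (cl_refl z a) (h.mem a t.ha))) (le_Gp hu (h.mem u huZ))
    apply (s.eq_one_iff h3).1
    have h4 : φ ⟨a⁻¹ * u, h3⟩ = (φ ⟨a, le_Gp (cl_refl z a) (h.mem a t.ha)⟩)⁻¹ * φ ⟨u, le_Gp hu (h.mem u huZ)⟩ := by
      rw [← map_inv, ← map_mul]
      rfl
    rw [h4, h1, inv_mul_cancel]
  have h3 : Ce u (K a) := by
    have h4 : Ce (a * (a⁻¹ * u)) (K a) :=
      Ce.mul (fun k hk => (h.cent t.ha hk).symm) fun k hk => (h2 k (le_Gp (cl_refl z a) hk)).symm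
    rwa [mul_inv_cancel_left] at h4
  rcases t.eq_or h ao hu h3 with h4 | h4
  · left; rw [h4]
  · right; rw [h4]

theorem SecSW.memA : Mem OmY (φ ⟨a, le_Gp (cl_refl z a) (h.mem a t.ha)⟩)
    (((K a).subgroupOf (Gp K (Cl Z K z a))).map φ) :=
  ⟨(s.mem _).2 ⟨a, cl_refl z a, rfl⟩, s.zz_eq h ao t (cl_refl z a)⟩

theorem SecSW.memB : Mem OmY (φ ⟨a, le_Gp (cl_refl z a) (h.mem a t.ha)⟩)
    (((K b).subgroupOf (Gp K (Cl Z K z a))).map φ) :=
  ⟨(s.mem _).2 ⟨b, t.b_mem h ao, rfl⟩, (s.zz_eq h ao t (t.b_mem h ao)).trans (s.phi_eq h ao t)⟩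

/-- elements of `R` at the image of `a` -/
theorem SecSW.mem_RZ {r : Y} (hr : r ∈ RZ OmY (φ ⟨a, le_Gp (cl_refl z a) (h.mem a t.ha)⟩)) :
    ∃ k ∈ K a, ∃ l ∈ K b, ∃ hkl : k * l ∈ Gp K (Cl Z K z a), r = φ ⟨k * l, hkl⟩ := by
  let f : K a × K b →* G := (K a).subtype.noncommCoprod (K b).subtype fun x y => t.cab.2 x x.2 y y.2
  have hf : f.range = K a ⊔ K b := by
    have h0 := MonoidHom.noncommCoprod_range (K a).subtype (K b).subtype fun x y => t.cab.2 x x.2 y y.2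
    rwa [range_subtype, range_subtype] at h0
  have h1 : RZ OmY (φ ⟨a, le_Gp (cl_refl z a) (h.mem a t.ha)⟩) ≤
      ((K a ⊔ K b).subgroupOf (Gp K (Cl Z K z a))).map φ := by
    refine RZ_le fun P hP => ?_
    rcases s.mem_over h ao t hP with h2 | h2
    · rw [h2]; exact map_mono (comap_mono le_sup_left)
    · rw [h2]; exact map_mono (comap_mono le_sup_right)
  obtain ⟨⟨w, hw⟩, hw1, rfl⟩ := h1 hr
  have hw2 : w ∈ K a ⊔ K b := hw1
  rw [← hf] at hw2
  obtain ⟨⟨k, l⟩, hkl⟩ := hw2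
  have h3 : (k : G) * l = w := hkl
  exact ⟨k, k.2, l, l.2, by rw [h3]; exact hw, by congr 1; exact Subtype.ext h3.symm⟩

/-- an element of `X` which centralises the image of `K u` centralises `K u` -/
theorem SecSW.lift_ce (hu : u ∈ Cl Z K z a) {c : G} (hc : c ∈ Gp K (Cl Z K z a))
    (h1 : ∀ k ∈ ((K u).subgroupOf (Gp K (Cl Z K z a))).map φ, φ ⟨c, hc⟩ * k = k * φ ⟨c, hc⟩) : Ce c (K u) := by
  have huZ := t.clZ h ao hu
  -- the commutator is central
  have h2 : ∀ k ∈ K u, ∀ g ∈ Gp K (Cl Z K z a), g * (c * k * c⁻¹ * k⁻¹) = (c * k * c⁻¹ * k⁻¹) * g := by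
    intro k hk
    have hkX := le_Gp hu hk
    have h3 : c * k * c⁻¹ * k⁻¹ ∈ Gp K (Cl Z K z a) := mul_mem (mul_mem (mul_mem hc hkX) (inv_mem hc)) (inv_mem hkX)
    apply (s.eq_one_iff h3).1
    have h4 := h1 (φ ⟨k, hkX⟩) (mem_map_of_mem _ (mem_subgroupOf.2 hk))
    have h5 : φ ⟨c * k * c⁻¹ * k⁻¹, h3⟩ = φ ⟨c, hc⟩ * φ ⟨k, hkX⟩ * (φ ⟨c, hc⟩)⁻¹ * (φ ⟨k, hkX⟩)⁻¹ := by
      rw [← map_inv, ← map_inv, ← map_mul, ← map_mul, ← map_mul]
      rfl
    rw [h5, h4]
    group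
  -- it is a homomorphism
  have h3 : ∀ k ∈ K u, ∀ l ∈ K u, c * (k * l) * c⁻¹ * (k * l)⁻¹ = (c * k * c⁻¹ * k⁻¹) * (c * l * c⁻¹ * l⁻¹) := by
    intro k hk l hl
    have h4 := h2 l hl k⁻¹ (le_Gp hu (inv_mem hk))
    calc c * (k * l) * c⁻¹ * (k * l)⁻¹ = (c * k * c⁻¹) * ((c * l * c⁻¹ * l⁻¹) * k⁻¹) := by group
      _ = (c * k * c⁻¹) * (k⁻¹ * (c * l * c⁻¹ * l⁻¹)) := by rw [h4]
      _ = _ := by group
  obtain ⟨i, hi, j, hj, -, -, hji, -⟩ := h.exists_ij huZ
  have hcom : (c * i * c⁻¹ * i⁻¹) * (c * j * c⁻¹ * j⁻¹) = (c * j * c⁻¹ * j⁻¹) * (c * i * c⁻¹ * i⁻¹) := by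
    apply h2 j hj
    exact mul_mem (mul_mem (mul_mem hc (le_Gp hu hi)) (inv_mem hc)) (inv_mem (le_Gp hu hi))
  have h4 : c * u * c⁻¹ * u⁻¹ = 1 := by
    have h5 := h3 j hj i hi
    rw [hji, h3 u (h.mem u huZ) (i * j) (mul_mem hi hj), h3 i hi j hj, hcom] at h5
    exact mul_eq_right.1 h5
  have h5 : c * u = u * c := by
    calc c * u = (c * u * c⁻¹ * u⁻¹) * (u * c) := by group
      _ = u * c := by rw [h4, one_mul]
  intro k hk
  have h6 : c * k * c⁻¹ * k⁻¹ ∈ K u := mul_mem (h.norm_mem huZ h5 hk) (inv_mem hk)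
  have h7 := t.inf h ao hu h6 (h2 k hk)
  calc c * k = (c * k * c⁻¹ * k⁻¹) * (k * c) := by group
    _ = k * c := by rw [h7, one_mul]

/-- **Lemma B** -/
theorem SecSW.label : ∃ c, c * c = z ∧ Ce c (K z) ∧ Ce c (K a) ∧ Ce c (K b) := by
  set q := φ ⟨a, le_Gp (cl_refl z a) (h.mem a t.ha)⟩ with hq
  have haX : a ∈ Gp K (Cl Z K z a) := le_Gp (cl_refl z a) (h.mem a t.ha)
  have hqZ : InZ OmY q := ⟨_, s.memA h ao t⟩
  obtain ⟨c0, c1, c2, hCC, -⟩ := s.sw.three q hqZ
  have hc0 : c0 ∈ CC OmY q := by rw [hCC]; exact Or.inl rfl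
  obtain ⟨tt, l⟩ := hc0
  -- `tt = φ x`
  obtain ⟨P, hP⟩ := l.ti.2.1
  obtain ⟨x, hx, rfl⟩ := (s.mem P).1 hP.1
  have hxZ := t.clZ h ao hx
  have hxX : x ∈ Gp K (Cl Z K z a) := le_Gp hx (h.mem x hxZ)
  have htt : φ ⟨x, hxX⟩ = tt := by rw [← s.zz_eq h ao t hx]; exact hP.2
  have hxx := h.sq x hxZ
  -- `tt * c0 = φ (k2 * k3)`
  obtain ⟨k, hk, m, hm, hkm, hr⟩ := s.mem_RZ h ao t l.wz
  have hcX : x * (k * m) ∈ Gp K (Cl Z K z a) := mul_mem hxX hkm
  set c := x * (k * m) with hc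
  have hφc : φ ⟨c, hcX⟩ = c0 := by
    have h1 : φ ⟨c, hcX⟩ = φ ⟨x, hxX⟩ * φ ⟨k * m, hkm⟩ := by
      rw [← map_mul]
      rfl
    rw [h1, htt, ← hr, ← mul_assoc]
    have h2 : tt * tt = 1 := by
      rw [← htt, ← map_mul]
      exact (congrArg φ (Subtype.ext hxx)).trans (map_one φ)
    rw [h2, one_mul]
  -- `c` centralises `K a`, `K b`
  have hca : Ce c (K a) := by
    refine s.lift_ce h ao t (cl_refl z a) hcX fun y hy => ?_
    rw [hφc]
    exact mem_CX.1 l.cz _ (s.memA h ao t) y hy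
  have hcb : Ce c (K b) := by
    refine s.lift_ce h ao t (t.b_mem h ao) hcX fun y hy => ?_
    rw [hφc]
    exact mem_CX.1 l.cz _ (s.memB h ao t) y hy
  have hcz : Ce c (K z) := fun y hy => by
    have h1 : Gp K (Cl Z K z a) ≤ centralizer (K z : Set G) := Gp_le fun u hu k' hk' => by
      rw [mem_centralizer_iff]
      intro w hw
      exact (t.cp h ao hu).2 w hw k' hk'
    exact (mem_centralizer_iff.1 (h1 hcX) y hy).symm
  -- `x ∉ {a, b}`
  have hxa : x ≠ a := by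
    rintro rfl
    exact l.ti.2.2.1 htt
  have hxb : x ≠ b := by
    rintro rfl
    exact l.ti.2.2.1 ((s.phi_eq h ao t).symm.trans htt)
  have hxc : x * c = k * m := by rw [hc, ← mul_assoc, hxx, one_mul]
  have hxe : x = k * m * c⁻¹ := by rw [← hxc, mul_inv_cancel_right]
  have hma : Ce m (K a) := fun y hy => (t.cab.2 y hy m hm).symm
  have hkb : Ce k (K b) := fun y hy => t.cab.2 k hk y hy
  have hk2 : k * k = a := by
    apply h.sq_eq t.ha hk
    · rintro rfl
      have h1 : Ce x (K a) := by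
        rw [hxe, one_mul]
        exact hma.mul hca.inv
      rcases t.eq_or h ao hx h1 with h2 | h2
      · exact hxa h2
      · exact hxb h2
    · intro h0
      have h1 : Ce x (K a) := by
        rw [hxe, h0]
        exact (Ce.mul (fun y hy => (h.cent t.ha hy).symm) hma).mul hca.inv
      rcases t.eq_or h ao hx h1 with h2 | h2
      · exact hxa h2
      · exact hxb h2
  have hm2 : m * m = b := by
    apply h.sq_eq t.hb hm
    · rintro rfl
      have h1 : Ce x (K b) := by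
        rw [hxe, mul_one]
        exact hkb.mul hcb.inv
      rcases t.eq_or' h ao hx h1 with h2 | h2
      · exact hxa h2
      · exact hxb h2
    · intro h0
      have h1 : Ce x (K b) := by
        rw [hxe, h0]
        exact (hkb.mul fun y hy => (h.cent t.hb hy).symm).mul hcb.inv
      rcases t.eq_or' h ao hx h1 with h2 | h2
      · exact hxa h2
      · exact hxb h2
  have hkm' : k * m = m * k := t.cab.2 k hk m hm
  have hck : c * k = k * c := hca k hk
  have hcm : c * m = m * c := hcb m hm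
  have hcx : c * x = x * c := by
    have h1 : c * (k * m) = (k * m) * c := by
      rw [← mul_assoc, hck, mul_assoc, hcm, ← mul_assoc]
    calc c * x = c * (k * m) * c⁻¹ := by rw [hxe]; group
      _ = k * m := by rw [h1, mul_inv_cancel_right]
      _ = x * c := hxc.symm
  refine ⟨c, ?_, hcz, hca, hcb⟩
  have h1 : (x * c) * (x * c) = c * c := by
    calc (x * c) * (x * c) = x * (c * x) * c := by group
      _ = (x * x) * (c * c) := by rw [hcx]; group
      _ = c * c := by rw [hxx, one_mul]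
  rw [← h1, hxc]
  calc (k * m) * (k * m) = k * (m * k) * m := by group
    _ = (k * k) * (m * m) := by rw [← hkm']; group
    _ = z := by rw [hk2, hm2, t.mul h ao]

end sec

/-- **(M3)** -/
theorem Tri.false_of [Finite G] (h : W Z K) (ao : AllOne Z K) (t : Tri Z K z a b)
    {Y₁ Y₂ : Type*} [Group Y₁] [Finite Y₁] [Group Y₂] [Finite Y₂]
    {φ₁ : ↥(Gp K (Cl Z K z a)) →* Y₁} {Om₁ : Set (Subgroup Y₁)} (s₁ : SecSW Z K z a φ₁ Om₁)
    {φ₂ : ↥(Gp K (Cl Z K a b)) →* Y₂} {Om₂ : Set (Subgroup Y₂)} (s₂ : SecSW Z K a b φ₂ Om₂)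
    (hC : centralizer (generalizedFittingSubgroup Y₂ : Set Y₂) = ⊥)
    (hin : ∀ β : MulAut ↥(generalizedFittingSubgroup Y₂), ∃ x, β = MulAut.conj x) : False := by
  obtain ⟨c, hcc, hcz, hca, hcb⟩ := s₁.label h ao t
  have t' := t.rot
  have hac : c * a = a * c := hca a (h.mem a t.ha)
  have hbc : c * b = b * c := hcb b (h.mem b t.hb)
  have hac' : c⁻¹ * a = a * c⁻¹ := hca.inv a (h.mem a t.ha)
  have hbc' : c⁻¹ * b = b * c⁻¹ := hcb.inv b (h.mem b t.hb)
  have hsub : Cl Z K a b ⊆ Z := fun u hu => t'.clZ h ao hu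
  have key : ∀ d : G, d * a = a * d → d * b = b * d → ∀ u ∈ Cl Z K a b, d * u * d⁻¹ ∈ Cl Z K a b := by
    intro d hd1 hd2 u hu
    have h1 := cl_conj' h (t'.aO h ao) hd1 hu
    rwa [hd2, mul_inv_cancel_right] at h1
  have k1 : ∀ x ∈ Gp K (Cl Z K a b), c * x * c⁻¹ ∈ Gp K (Cl Z K a b) := fun x hx =>
    gp_conj h hsub (key c hac hbc) hx
  have k2 : ∀ x ∈ Gp K (Cl Z K a b), c⁻¹ * x * c ∈ Gp K (Cl Z K a b) := fun x hx => by
    have h1 := gp_conj h hsub (key c⁻¹ hac' hbc') hx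
    rwa [inv_inv] at h1
  let γ : MulAut ↥(Gp K (Cl Z K a b)) :=
    { toFun := fun x => ⟨c * x * c⁻¹, k1 x x.2⟩
      invFun := fun x => ⟨c⁻¹ * x * c, k2 x x.2⟩
      left_inv := fun x => Subtype.ext (by show c⁻¹ * (c * (x : G) * c⁻¹) * c = x; group)
      right_inv := fun x => Subtype.ext (by show c * (c⁻¹ * (x : G) * c) * c⁻¹ = x; group)
      map_mul' := fun x y => Subtype.ext (by
        show c * ((x : G) * y) * c⁻¹ = (c * x * c⁻¹) * (c * y * c⁻¹); group) }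
  have hγ : ∀ x, ((γ x : ↥(Gp K (Cl Z K a b))) : G) = c * x * c⁻¹ := fun _ => rfl
  obtain ⟨α, hα⟩ := exists_aut_of_ker s₂.surj γ (by
    rw [s₂.ker]
    exact characteristic_iff_map_eq.1 inferInstance γ)
  have hab : Gp K (Cl Z K a b) = Gp K (Cl Z K a b) := rfl
  have hb0 : b ∈ Gp K (Cl Z K a b) := le_Gp (cl_refl a b) (h.mem b t.hb)
  have hz0 : z ∈ Gp K (Cl Z K a b) := le_Gp (t'.b_mem h ao) (h.mem z t.hz)
  have hqe : φ₂ ⟨z, hz0⟩ = φ₂ ⟨b, hb0⟩ := s₂.phi_eq h ao t'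
  have hfix : ∀ {u : G}, Ce c (K u) → ∀ r ∈ ((K u).subgroupOf (Gp K (Cl Z K a b))).map φ₂, α r = r := by
    rintro u hu _ ⟨⟨r, hr⟩, hr1, rfl⟩
    rw [hα]
    congr 1
    apply Subtype.ext
    rw [hγ]
    show c * r * c⁻¹ = r
    rw [hu r hr1, mul_inv_cancel_right]
  refine SW.not_sqrt (z := φ₂ ⟨b, hb0⟩) s₂.sw ⟨_, s₂.memA h ao t'⟩ hC hin α ?_ ?_
  · intro P hP r hr
    rcases s₂.mem_over h ao t' hP with h1 | h1
    · exact hfix hcb r (h1 ▸ hr)
    · exact hfix hcz r (h1 ▸ hr)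
  · intro y
    obtain ⟨g, rfl⟩ := s₂.surj y
    rw [hα, hα, ← hqe, ← map_inv, ← map_mul, ← map_mul]
    congr 1
    apply Subtype.ext
    rw [hγ, hγ]
    show c * (c * (g : G) * c⁻¹) * c⁻¹ = z * g * z⁻¹
    rw [← hcc]
    group

end Cfsg.Agent.Cit.Nil.Comp
end
end
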